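import Cfsg.Agent.Lib.MTwentyThreeUnique.OrderLocal.SG
import Cfsg.Agent.Lib.MTwentyTwoUnique.FromOrder.Setting
import Mathlib

/-!
The principal block without the trivial character, with the relation and the count of inverting conjugates.
-/

set_option autoImplicit false
set_option linter.unusedSectionVars false

noncomputable section

open scoped ComplexConjugate Classical

namespace CfsgLib.MTwentyThreeUnique.OrderLocal

open Subgroup CfsgLib.InvolChar CfsgLib.Blocks CfsgLib.Blocks.PrimeSylow Cfsg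
open CfsgLib.MTwentyTwoUnique.FromOrder (PB reg mem_reg one_mem_reg invSet mem_invSet commute_pw)

variable {G : Type*} [Group G] [Fintype G] {p : ℕ} [hp : Fact p.Prime]

/-- The norm of the column of the principal block at a generator of the Sylow subgroup. -/
theorem pb_norm {P : Sylow p G} {hP : Nat.card P = p} {e : ℕ} (B : PB G P hP e) {i : ZMod p}
    (hi : i ≠ 0) :
    ∑ χ ∈ B.X ∪ B.Y, (χ : G → ℂ) (pw P hP i) * conj ((χ : G → ℂ) (pw P hP i)) = (p : ℂ) := by
  set x := pw P hP i with hx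
  have hxo : orderOf x = p := by
    rw [← Nat.card_zpowers, hx, zpowers_pw P hP hi]
    exact hP
  have hother : ∀ z ∈ reg P, IsConj (x * z) x → z = 1 := fun z hz hc => by
    obtain ⟨hzC, hzp⟩ := (mem_reg P).mp hz
    have hcomm : Commute x z := mem_centralizer_iff.mp hzC x (pw_mem P hP i)
    obtain ⟨g, hg⟩ := isConj_iff.mp hc
    have ho : orderOf (x * z) = orderOf x :=
      ((MulEquiv.orderOf_eq (MulAut.conj g) (x * z)).symm.trans (congrArg orderOf hg))
    rw [hcomm.orderOf_mul_eq_mul_orderOf_of_coprime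
      (by rw [hxo]; exact (hp.out.coprime_iff_not_dvd).mpr hzp), hxo] at ho
    exact orderOf_eq_one_iff.mp (Nat.eq_of_mul_eq_mul_left hp.out.pos (ho.trans (mul_one p).symm))
  have h1 : ∑ z ∈ reg P, ∑ χ : IrrCharacter G, (χ : G → ℂ) (x * z) * conj ((χ : G → ℂ) x) =
      ((p * (reg P).card : ℕ) : ℂ) := by
    rw [Finset.sum_eq_single 1]
    · rw [mul_one, CfsgLib.Char.second_orthogonality, if_pos (IsConj.refl x), hx, centralizer_pw P hP hi,
        CfsgLib.MTwentyTwoUnique.FromOrder.card_centralizer_eq P hP]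
    · intro z hz hz1
      rw [CfsgLib.Char.second_orthogonality, if_neg fun h => hz1 (hother z hz h)]
    · exact fun h => absurd (one_mem_reg P) h
  rw [Finset.sum_comm] at h1
  have h2 : ∀ χ : IrrCharacter G, ∑ z ∈ reg P, (χ : G → ℂ) (x * z) * conj ((χ : G → ℂ) x) =
      if χ ∈ B.X ∪ B.Y then ((reg P).card : ℂ) * ((χ : G → ℂ) x * conj ((χ : G → ℂ) x)) else 0 := fun χ => by
    rw [← Finset.sum_mul]
    split_ifs with h
    · rw [Finset.sum_congr rfl fun z hz => B.in_val χ h i hi z hz, Finset.sum_const, nsmul_eq_mul]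
      ring
    · rw [Finset.mem_union, not_or] at h
      rw [B.out_sum χ h.1 h.2 i hi, zero_mul]
  rw [Finset.sum_congr rfl fun χ _ => h2 χ, Finset.sum_ite_mem, Finset.univ_inter, ← Finset.mul_sum] at h1
  have hne : ((reg P).card : ℂ) ≠ 0 := Nat.cast_ne_zero.mpr (Finset.card_pos.mpr ⟨1, one_mem_reg P⟩).ne'
  refine mul_left_cancel₀ hne (h1.trans ?_)
  push_cast
  ring

/-- The principal block without the trivial character: `e - 1` signed characters and the family `Y`. -/
structure Blk (G : Type*) [Group G] [Fintype G] {p : ℕ} [Fact p.Prime] (P : Sylow p G)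
    (hP : Nat.card P = p) (e : ℕ) where
  /-- signed -/
  X : Finset (IrrCharacter G)
  /-- exceptional -/
  Y : Finset (IrrCharacter G)
  /-- signs -/
  s : IrrCharacter G → ℤ
  /-- the exceptional sign -/
  ε : ℤ
  /-- the exceptional degree -/
  f : ℕ
  not_one : CfsgLib.Char.irrOne ∉ X ∪ Y
  disj : Disjoint X Y
  card_X : X.card = e - 1
  card_Y : Y.card = (p - 1) / e
  Y_ne : Y.Nonempty
  s_sq : ∀ χ ∈ X, s χ = 1 ∨ s χ = -1
  deg_X : ∀ χ ∈ X, (p : ℤ) ∣ (deg χ : ℤ) - s χ
  val_X : ∀ χ ∈ X, ∀ i : ZMod p, i ≠ 0 → (χ : G → ℂ) (pw P hP i) = (s χ : ℂ)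
  ε_sq : ε = 1 ∨ ε = -1
  deg_Y : ∀ θ ∈ Y, deg θ = f
  deg_f : (p : ℤ) ∣ (f : ℤ) - ε * e
  Y_eq : ∀ θ ∈ Y, ∀ θ' ∈ Y, ∀ g : G, ¬ p ∣ orderOf g → (θ : G → ℂ) g = (θ' : G → ℂ) g
  rel : ∀ θ ∈ Y, ∀ g : G, ¬ p ∣ orderOf g →
    (ε : ℂ) * (θ : G → ℂ) g = 1 + ∑ χ ∈ X, (s χ : ℂ) * (χ : G → ℂ) g
  congr : p ≠ 2 → ∀ χ ∈ X ∪ Y, ∀ (t : G) (ht : t * t = 1), t ≠ 1 →
    t ∈ centralizer ((P : Subgroup G) : Set G) → (p : ℤ) ∣ intVal χ ht - (deg χ : ℤ)
  sum_Y : ∀ i : ZMod p, i ≠ 0 → ∑ θ ∈ Y, (θ : G → ℂ) (pw P hP i) = -(ε : ℂ)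
  norm : ∀ i : ZMod p, i ≠ 0 →
    1 + ∑ χ ∈ X ∪ Y, (χ : G → ℂ) (pw P hP i) * conj ((χ : G → ℂ) (pw P hP i)) = (p : ℂ)
  count : p ≠ 2 → ∀ (t : G) (ht : t * t = 1) (r : ℤ), (∀ θ ∈ Y, intVal θ ht = r) →
    ((invSet (pw P hP 1) t).card : ℤ) * (invSet (pw P hP 1) t).card *
        ((Nat.card (centralizer ({t} : Set G)) : ℤ) * Nat.card (centralizer ({t} : Set G))) =
      (p : ℤ) * (reg P).card * ((Nat.card G : ℤ) +
        ∑ χ ∈ X, s χ * intVal χ ht * intVal χ ht * ((Nat.card G / deg χ : ℕ) : ℤ) -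
        ε * r * r * ((Nat.card G / f : ℕ) : ℤ))

variable {P : Sylow p G} {hP : Nat.card P = p} {e : ℕ}

/-- The block in the normal form. -/
theorem exists_blk (he2 : 2 ≤ e) (hep : e < p)
    (he : (centralizer ((P : Subgroup G) : Set G)).relIndex (normalizer ((P : Subgroup G) : Set G)) = e) :
    Nonempty (Blk G P hP e) := by
  obtain ⟨B⟩ := CfsgLib.MTwentyTwoUnique.FromOrder.exists_pb P hP e he
  have hone : ∀ g : G, ((CfsgLib.Char.irrOne : IrrCharacter G) : G → ℂ) g = 1 := fun g =>
    CfsgLib.Char.irrOne_apply g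
  have hv1 : ∀ (t : G) (ht : t * t = 1), intVal (CfsgLib.Char.irrOne : IrrCharacter G) ht = 1 :=
    fun t ht => intVal_irrOne ht
  by_cases h1 : CfsgLib.Char.irrOne ∈ B.X
  · have hs1 : B.s CfsgLib.Char.irrOne = 1 := by
      have h := B.val_X _ h1 1 one_ne_zero
      rw [hone] at h
      exact_mod_cast h.symm
    refine ⟨{
      X := B.X.erase CfsgLib.Char.irrOne, Y := B.Y, s := B.s, ε := B.ε, f := B.f
      not_one := by
        rw [Finset.mem_union, not_or]
        exact ⟨Finset.notMem_erase _ _, Finset.disjoint_left.mp B.disj h1⟩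
      disj := B.disj.mono_left (Finset.erase_subset _ _)
      card_X := by rw [Finset.card_erase_of_mem h1, B.card_X]
      card_Y := B.card_Y
      Y_ne := B.Y_ne
      s_sq := fun χ h => B.s_sq χ (Finset.mem_of_mem_erase h)
      deg_X := fun χ h => B.deg_X χ (Finset.mem_of_mem_erase h)
      val_X := fun χ h => B.val_X χ (Finset.mem_of_mem_erase h)
      ε_sq := B.ε_sq
      deg_Y := B.deg_Y
      deg_f := B.deg_f
      Y_eq := B.Y_eq
      rel := fun θ hθ g hg => by
        rw [B.rel θ hθ g hg, ← Finset.add_sum_erase _ _ h1, hs1, hone]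
        norm_num
      congr := fun hp2 χ h => B.congr hp2 χ
        (Finset.union_subset_union (Finset.erase_subset _ _) (Finset.Subset.refl _) h)
      sum_Y := B.sum_Y
      norm := fun i hi => by
        have h := pb_norm B hi
        rw [← Finset.add_sum_erase _ _ (Finset.mem_union_left _ h1), hone, map_one, mul_one,
          Finset.erase_union_distrib, Finset.erase_eq_of_notMem (Finset.disjoint_left.mp B.disj h1)] at h
        exact h
      count := fun hp2 t ht r hr => by
        rw [B.count_eq P hP hp2 ht r hr, PB.sg, ← Finset.add_sum_erase _ _ h1, hs1, hv1 t ht,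
          deg_irrOne, Nat.div_one, one_mul, one_mul, one_mul] }⟩
  · have h1Y : CfsgLib.Char.irrOne ∈ B.Y := (Finset.mem_union.mp B.one_mem).resolve_left h1
    have hf1 : B.f = 1 := by rw [← B.deg_Y _ h1Y, deg_irrOne]
    have hεm : B.ε = -1 ∧ e = p - 1 := by
      have hd := B.deg_f
      rw [hf1, Nat.cast_one] at hd
      rcases B.ε_sq with k | k <;> rw [k] at hd
      · have h2 : (p : ℤ) ∣ (e : ℤ) - 1 := by rw [← dvd_neg]; simpa using hd
        have := Int.le_of_dvd (by omega) h2
        omega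
      · have h2 : (p : ℤ) ∣ (e : ℤ) + 1 := by simpa [add_comm] using hd
        have := Int.le_of_dvd (by omega) h2
        exact ⟨k, by omega⟩
    obtain ⟨hε1, hee⟩ := hεm
    have hY1 : B.Y = {CfsgLib.Char.irrOne} := by
      refine (Finset.eq_of_subset_of_card_le (Finset.singleton_subset_iff.mpr h1Y) ?_).symm
      rw [B.card_Y, hee, Finset.card_singleton, Nat.div_self (by omega)]
    obtain ⟨η, hη⟩ := Finset.card_pos.mp (show 0 < B.X.card by rw [B.card_X]; omega)
    have hrel : ∀ g : G, ¬ p ∣ orderOf g →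
        (-(B.s η) : ℂ) * (η : G → ℂ) g = 1 + ∑ χ ∈ B.X.erase η, (B.s χ : ℂ) * (χ : G → ℂ) g := fun g hg => by
      have h := B.rel _ h1Y g hg
      rw [hε1, hone, ← Finset.add_sum_erase _ _ hη] at h
      push_cast at h
      linear_combination h
    refine ⟨{
      X := B.X.erase η, Y := {η}, s := B.s, ε := -(B.s η), f := deg η
      not_one := by
        rw [Finset.mem_union, not_or, Finset.mem_singleton]
        exact ⟨fun h => h1 (Finset.mem_of_mem_erase h), fun h => h1 (h ▸ hη)⟩
      disj := Finset.disjoint_singleton_right.mpr (Finset.notMem_erase _ _)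
      card_X := by rw [Finset.card_erase_of_mem hη, B.card_X]
      card_Y := by rw [Finset.card_singleton, hee, Nat.div_self (by omega)]
      Y_ne := Finset.singleton_nonempty _
      s_sq := fun χ h => B.s_sq χ (Finset.mem_of_mem_erase h)
      deg_X := fun χ h => B.deg_X χ (Finset.mem_of_mem_erase h)
      val_X := fun χ h => B.val_X χ (Finset.mem_of_mem_erase h)
      ε_sq := by rcases B.s_sq η hη with k | k <;> simp [k]
      deg_Y := fun θ h => by rw [Finset.mem_singleton.mp h]
      deg_f := by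
        have h := B.deg_X η hη
        have hpe : ((e : ℕ) : ℤ) = (p : ℤ) - 1 := by omega
        rw [hpe, show (deg η : ℤ) - -B.s η * ((p : ℤ) - 1) =
          ((deg η : ℤ) - B.s η) + B.s η * p by ring]
        exact dvd_add h (dvd_mul_left _ _)
      Y_eq := fun a ha b hb g hg => by rw [Finset.mem_singleton.mp ha, Finset.mem_singleton.mp hb]
      rel := fun θ hθ g hg => by
        rw [Finset.mem_singleton.mp hθ]
        push_cast
        exact hrel g hg
      congr := fun hp2 χ h => B.congr hp2 χ (Finset.mem_union_left _ (by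
        rcases Finset.mem_union.mp h with h | h
        · exact Finset.mem_of_mem_erase h
        · rw [Finset.mem_singleton.mp h]; exact hη))
      sum_Y := fun i hi => by
        rw [Finset.sum_singleton, B.val_X η hη i hi]
        push_cast
        ring
      norm := fun i hi => by
        have h := pb_norm B hi
        rw [hY1, Finset.union_singleton, Finset.sum_insert h1, hone, map_one, mul_one] at h
        rw [Finset.union_singleton, Finset.insert_erase hη]
        exact h
      count := fun hp2 t ht r hr => by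
        rw [B.count_eq P hP hp2 ht 1 (fun θ hθ => by
          rw [hY1, Finset.mem_singleton] at hθ
          rw [hθ, hv1 t ht]), PB.sg, hε1, hf1, Nat.div_one, ← hr η (Finset.mem_singleton_self η),
          ← Finset.add_sum_erase _ _ hη]
        ring }⟩

namespace Blk

variable (D : Blk G P hP e)
include D

theorem deg_rel : D.ε * (D.f : ℤ) = 1 + ∑ χ ∈ D.X, D.s χ * (deg χ : ℤ) := by
  obtain ⟨θ, hθ⟩ := D.Y_ne
  have h := D.rel θ hθ 1 (by rw [orderOf_one]; exact hp.out.not_dvd_one)
  rw [deg_spec, D.deg_Y θ hθ, Finset.sum_congr rfl fun χ _ => by rw [deg_spec χ]] at h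
  exact_mod_cast h

theorem sgn_X (hp2 : 2 < p) {χ : IrrCharacter G} (hχ : χ ∈ D.X) :
    CfsgLib.MTwentyTwoUnique.sgn p (deg χ) = D.s χ :=
  CfsgLib.MTwentyTwoUnique.sgn_eq hp2 (D.s_sq χ hχ) (D.deg_X χ hχ)

theorem mod_X {χ : IrrCharacter G} (hχ : χ ∈ D.X) : deg χ % p = 1 ∨ deg χ % p = p - 1 := by
  have h := D.deg_X χ hχ
  have hp1 := hp.out.two_le
  have h1 : ((deg χ % p : ℕ) : ℤ) = D.s χ % p := by
    push_cast
    exact Int.emod_eq_emod_iff_emod_sub_eq_zero.mpr (Int.emod_eq_zero_of_dvd h)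
  rcases D.s_sq χ hχ with k | k <;> rw [k] at h1
  · rw [Int.emod_eq_of_lt (by norm_num) (by omega)] at h1
    exact Or.inl (by exact_mod_cast h1)
  · rw [show (-1 : ℤ) % (p : ℤ) = (p : ℤ) - 1 by
      rw [← Int.add_emod_right]
      exact (Int.emod_eq_of_lt (by omega) (by omega)).trans (by ring)] at h1
    exact Or.inr (by omega)

/-- The common value on `Y`. -/
theorem exists_val (hp2 : p ≠ 2) {t : G} (ht : t * t = 1) (ht1 : t ≠ 1) :
    ∃ r : ℤ, (∀ θ ∈ D.Y, intVal θ ht = r) ∧ D.ε * r = 1 + ∑ χ ∈ D.X, D.s χ * intVal χ ht := by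
  obtain ⟨θ₀, hθ₀⟩ := D.Y_ne
  have hto : ¬ p ∣ orderOf t := by
    rw [orderOf_eq_prime (p := 2) (by rw [sq]; exact ht) ht1]
    exact fun h => hp2 ((Nat.prime_dvd_prime_iff_eq hp.out Nat.prime_two).mp h)
  refine ⟨intVal θ₀ ht, fun θ hθ => ?_, ?_⟩
  · have h := D.Y_eq θ hθ θ₀ hθ₀ t hto
    rw [intVal_spec θ ht, intVal_spec θ₀ ht] at h
    exact_mod_cast h
  · have h := D.rel θ₀ hθ₀ t hto
    rw [intVal_spec θ₀ ht, Finset.sum_congr rfl fun χ _ => by rw [intVal_spec χ ht]] at h
    exact_mod_cast h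

/-- With an inverting conjugate the dihedral subgroup bounds the value from below. -/
theorem dihedral_le (hp2 : p ≠ 2) {t : G} (ht : t * t = 1)
    (hA : (invSet (pw P hP 1) t).Nonempty) {χ : IrrCharacter G} (hχ : χ ∈ D.X) :
    0 ≤ (deg χ : ℤ) + ((p : ℤ) - 1) * D.s χ + (p : ℤ) * intVal χ ht := by
  obtain ⟨a, ha⟩ := hA
  obtain ⟨hta, hax⟩ := mem_invSet.mp ha
  have haa : a * a = 1 := by
    obtain ⟨k, rfl⟩ := isConj_iff.mp hta
    calc k * t * k⁻¹ * (k * t * k⁻¹) = k * (t * t) * k⁻¹ := by group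
      _ = 1 := by rw [ht]; group
  have hai : a⁻¹ = a := inv_eq_of_mul_eq_one_left haa
  have hneg : ∀ i : ZMod p, a * pw P hP i * a⁻¹ = pw P hP (-i) := fun i => by
    have hi : pw P hP i = (pw P hP 1) ^ i.val := by rw [pw_pow, ZMod.natCast_zmod_val, mul_one]
    rw [hi, ← conj_pow, hax, inv_pow, ← hi, inv_eq_iff_mul_eq_one, ← pw_add, add_neg_cancel, pw_zero]
  have hswap : ∀ i : ZMod p, a * pw P hP i = pw P hP (-i) * a := fun i => by
    rw [← hneg i, inv_mul_cancel_right]
  have hPmem : ∀ i : ZMod p, pw P hP i ∈ (P : Subgroup G) := pw_mem P hP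
  have haN : ∀ z ∈ (P : Subgroup G), a * z * a ∈ (P : Subgroup G) := fun z hz => by
    obtain ⟨i, rfl⟩ := pw_surjOn P hP hz
    rw [hswap, mul_assoc, haa, mul_one]
    exact hPmem _
  have hanot : a ∉ (P : Subgroup G) := fun h => by
    have h2 := Subgroup.orderOf_dvd_natCard _ h
    rw [hP] at h2
    rcases (Nat.dvd_prime hp.out).mp h2 with h3 | h3
    · rw [orderOf_eq_one_iff.mp h3, one_mul, inv_one, mul_one] at hax
      have h4 : pw P hP (1 + 1 : ZMod p) = 1 := by
        rw [pw_add]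
        nth_rewrite 1 [hax]
        rw [inv_mul_cancel]
      have h5 : ((2 : ℕ) : ZMod p) = 0 := by
        have := (pw_eq_one_iff P hP).mp h4
        push_cast
        linear_combination this
      exact hp2 ((Nat.prime_dvd_prime_iff_eq hp.out Nat.prime_two).mp
        ((ZMod.natCast_eq_zero_iff 2 p).mp h5))
    · have h4 : p ∣ 2 := h3 ▸ orderOf_dvd_of_pow_eq_one (show a ^ 2 = 1 by rw [sq]; exact haa)
      exact hp2 ((Nat.prime_dvd_prime_iff_eq hp.out Nat.prime_two).mp h4)
  let H : Subgroup G :=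
    { carrier := {g | g ∈ (P : Subgroup G) ∨ g * a ∈ (P : Subgroup G)}
      one_mem' := Or.inl (one_mem _)
      mul_mem' := by
        rintro x y (hx | hx) (hy | hy)
        · exact Or.inl (mul_mem hx hy)
        · exact Or.inr (by rw [mul_assoc]; exact mul_mem hx hy)
        · refine Or.inr ?_
          have h2 := mul_mem hx (haN y hy)
          rwa [show x * a * (a * y * a) = x * (a * a) * y * a by group, haa, mul_one] at h2
        · refine Or.inl ?_
          have h2 := mul_mem hx (haN _ hy)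
          rwa [show x * a * (a * (y * a) * a) = x * (a * a) * y * (a * a) by group, haa, mul_one,
            mul_one] at h2
      inv_mem' := by
        rintro x (hx | hx)
        · exact Or.inl (inv_mem hx)
        · refine Or.inr ?_
          have h2 := haN _ (inv_mem hx)
          rwa [mul_inv_rev, hai, ← mul_assoc, haa, one_mul] at h2 }
  have hmem : ∀ q : ZMod p × Bool, pw P hP q.1 * (if q.2 then a else 1) ∈ H := fun q => by
    by_cases h : q.2
    · rw [if_pos h]; exact Or.inr (by rw [mul_assoc, haa, mul_one]; exact hPmem _)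
    · rw [if_neg h, mul_one]; exact Or.inl (hPmem _)
  let E : ZMod p × Bool ≃ H := Equiv.ofBijective (fun q => ⟨_, hmem q⟩) ⟨fun q q' h => by
    have h' : pw P hP q.1 * (if q.2 then a else 1) = pw P hP q'.1 * (if q'.2 then a else 1) :=
      congrArg Subtype.val h
    rcases q with ⟨i, b⟩; rcases q' with ⟨j, b'⟩
    cases b <;> cases b' <;> simp only [Bool.false_eq_true, if_false, if_true, mul_one] at h'
    · rw [pw_injective P hP h']
    · exact absurd (by rw [show a = (pw P hP j)⁻¹ * pw P hP i by rw [h', inv_mul_cancel_left]]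
                       exact mul_mem (inv_mem (hPmem _)) (hPmem _)) hanot
    · exact absurd (by rw [show a = (pw P hP i)⁻¹ * pw P hP j by rw [← h', inv_mul_cancel_left]]
                       exact mul_mem (inv_mem (hPmem _)) (hPmem _)) hanot
    · rw [pw_injective P hP (mul_right_cancel h')],
    fun g => by
      rcases g.2 with hg | hg
      · obtain ⟨i, hi⟩ := pw_surjOn P hP hg
        exact ⟨(i, false), Subtype.ext (by simp [hi])⟩
      · obtain ⟨i, hi⟩ := pw_surjOn P hP hg
        exact ⟨(i, true), Subtype.ext (by simp [hi, mul_assoc, haa])⟩⟩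
  refine sum_subgroup_nonneg (H := H) χ ?_
  rw [← E.sum_comp, Fintype.sum_prod_type]
  show ∑ i : ZMod p, ∑ b : Bool, (χ : G → ℂ) (pw P hP i * (if b then a else 1)) = _
  simp only [Fintype.sum_bool, if_true, if_false, Bool.false_eq_true, mul_one]
  rw [Finset.sum_add_distrib]
  have hrefl : ∀ i : ZMod p, (χ : G → ℂ) (pw P hP i * a) = (intVal χ ht : ℂ) := fun i => by
    have h2 : ((2 : ℕ) : ZMod p) ≠ 0 := by
      rw [Ne, ZMod.natCast_eq_zero_iff]
      exact fun h => hp2 ((Nat.prime_dvd_prime_iff_eq hp.out Nat.prime_two).mp h)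
    have h2' : (2 : ZMod p) ≠ 0 := by exact_mod_cast h2
    rw [← intVal_spec χ ht]
    refine (CfsgLib.MTwelveUnique.eq_of_isConj χ (hta.trans (isConj_iff.mpr ⟨pw P hP (i / 2), ?_⟩))).symm
    have hi : (pw P hP (i / 2))⁻¹ = pw P hP (-(i / 2)) := by
      rw [inv_eq_iff_mul_eq_one, ← pw_add, add_neg_cancel, pw_zero]
    rw [hi, mul_assoc, hswap, neg_neg, ← mul_assoc, ← pw_add]
    congr 2
    field_simp
    ring
  rw [Finset.sum_congr rfl fun i _ => hrefl i, Finset.sum_const, Finset.card_univ, ZMod.card,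
    ← Finset.add_sum_erase _ _ (Finset.mem_univ (0 : ZMod p)), pw_zero, deg_spec,
    Finset.sum_congr rfl fun i hi => D.val_X χ hχ i (Finset.ne_of_mem_erase hi), Finset.sum_const,
    Finset.card_erase_of_mem (Finset.mem_univ _), Finset.card_univ, ZMod.card]
  have hp1 : (1 : ℕ) ≤ p := hp.out.one_le
  push_cast [nsmul_eq_mul, Nat.cast_sub hp1]
  ring

end Blk

end CfsgLib.MTwentyThreeUnique.OrderLocal
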