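import Cfsg.Agent.Lib.MTwentyThreeUnique.OrderLocal.Five
import Cfsg.Agent.Lib.MTwentyThreeUnique.Degrees
import Mathlib

/-!
The lists of degrees allowed by the primes 5, 11 and 23, and the principal 7-blocks that fit them.
-/

set_option autoImplicit false
set_option linter.style.haveILetI false
set_option linter.unusedSectionVars false

noncomputable section

open scoped Classical

namespace CfsgLib.MTwentyThreeUnique.OrderLocal

open Subgroup CfsgLib.InvolChar CfsgLib.Blocks.PrimeSylow Cfsg

variable {G : Type*} [Group G] [Fintype G]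

/-- The column at an element of order five. -/
theorem five_col (hG : SG G) : ∃ v : IrrCharacter G → ℤ, (∀ χ, (5 : ℤ) ∣ (deg χ : ℤ) - v χ) ∧
    ∑ χ, v χ * v χ = 15 ∧ ∑ χ, v χ * (deg χ : ℤ) = 0 := by
  haveI : Fact (Nat.Prime 5) := ⟨by norm_num⟩
  obtain ⟨x, hx⟩ := exists_prime_orderOf_dvd_card' (G := G) 5 (by rw [hG.card]; norm_num)
  obtain ⟨hC, hN⟩ := five hG x hx
  have hconj : ∀ u ∈ zpowers x, u ≠ 1 → IsConj x u := fun u hu hu1 =>
    isConj_of_full hx hC (by rw [hN]) hu hu1
  choose v hv hd using fun χ => CfsgLib.SmallGroups.PrimeRational.exists_int_value hx hconj χ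
  refine ⟨v, hd, ?_, ?_⟩
  · rw [CfsgLib.MTwelveUnique.sum_sq_val v hv, hC]; norm_num
  · have hx1 : x ≠ 1 := fun h => by rw [h, orderOf_one] at hx; norm_num at hx
    rw [← CfsgLib.MTwelveUnique.sum_deg_val hx1 v hv]
    exact Finset.sum_congr rfl fun χ _ => mul_comm _ _

/-- A budget at seven that is always met. -/
def budget : ℕ := 40803840

/-- The degrees form one of the lists allowed by five, eleven and twenty-three. -/
theorem exists_list (hG : SG G) :
    ∃ L ∈ finals budget, (L : Multiset ℕ) = (Finset.univ : Finset (IrrCharacter G)).val.map deg := by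
  obtain ⟨⟨A⟩, ⟨B⟩⟩ := exists_sc_pair hG
  refine exists_final hG.card (fun χ hχ => ⟨hG.two_le_deg hχ, hG.deg_lt χ⟩) A B (five_col hG) budget ?_
  calc ∑ χ : IrrCharacter G, wSeven (deg χ) ≤ ∑ χ : IrrCharacter G, 4 * (deg χ * deg χ) := by
        refine Finset.sum_le_sum fun χ _ => ?_
        have h1 : wSeven (deg χ) ≤ 4 := by
          have : ∀ i < 7, ([0, 1, 4, 2, 2, 4, 1] : List ℕ).getD i 0 ≤ 4 := by decide
          exact this _ (Nat.mod_lt _ (by norm_num))
        have := deg_pos χ
        have : 1 ≤ deg χ * deg χ := Nat.one_le_iff_ne_zero.2 (Nat.mul_pos this this).ne'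
        omega
    _ = budget := by rw [← Finset.mul_sum, hG.sum_sq_deg]; rfl

/-- The degrees of a block. -/
def blockList (P : Par) (T : List (ℕ × ℕ)) : List ℕ :=
  (T.flatMap fun w => List.replicate w.2 w.1) ++ List.replicate ((P.p - 1) / P.e) (P.fOf T)

/-- Inclusion with multiplicities. -/
def subLe (l L : List ℕ) : Bool := l.all fun d => decide (l.count d ≤ L.count d)

theorem expand_coe : ∀ T : List (ℕ × ℕ), expand T = ((T.flatMap fun w => List.replicate w.2 w.1 : List ℕ) : Multiset ℕ)
  | [] => rfl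
  | (d, k) :: T => by
    rw [expand, expand_coe T, List.flatMap_cons, ← Multiset.coe_add, Multiset.coe_replicate]

variable {p : ℕ} [hp : Fact p.Prime] {P : Sylow p G} {hP : Nat.card P = p} {e : ℕ}

/-- The block lies among the degrees. -/
theorem subLe_of_blk (D : Blk G P hP e) {Q : Par} (hQp : Q.p = p) (hQe : Q.e = e) {T : List (ℕ × ℕ)}
    (hT : expand T = D.X.val.map deg) (hf : Q.fOf T = D.f) {L : List ℕ}
    (hL : (L : Multiset ℕ) = (Finset.univ : Finset (IrrCharacter G)).val.map deg) :
    subLe (blockList Q T) L = true := by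
  have hY : D.Y.val.map deg = Multiset.replicate D.Y.card D.f := by
    rw [Multiset.map_congr rfl fun θ hθ => D.deg_Y θ (Finset.mem_def.2 hθ), Multiset.map_const']
    rfl
  have hl : ((blockList Q T : List ℕ) : Multiset ℕ) ≤ (L : Multiset ℕ) := by
    rw [blockList, ← Multiset.coe_add, ← expand_coe, hT, Multiset.coe_replicate, hQp, hQe, hf,
      ← D.card_Y, ← hY, ← Multiset.map_add, ← Finset.disjUnion_val _ _ D.disj, hL]
    exact Multiset.map_le_map (Finset.val_le_iff.2 (Finset.subset_univ _))
  refine List.all_eq_true.2 fun d _ => decide_eq_true ?_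
  rw [← Multiset.coe_count, ← Multiset.coe_count]
  exact Multiset.count_le_of_le d hl

/-- The search at 7 with no condition on an involution. -/
def parJ (e : ℕ) : Par :=
  { p := 7, e := e, lo := 1, m := 1, ok := okAB, Cs := [], us := [], pos := false, zero := false }

/-- The lists allowed by five, eleven and twenty-three. -/
def finalsList : List (List ℕ) :=
  [[1, 22, 231, 231, 990, 990, 990, 1540, 1540, 11, 11, 230, 230, 736, 1035, 160, 160, 253, 759],
   [1, 22, 22, 231, 528, 990, 990, 990, 1540, 770, 770, 230, 230, 736, 1035, 160, 160, 1265],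
   [1, 22, 22, 231, 231, 231, 990, 990, 1540, 770, 770, 230, 230, 736, 1035, 160, 160, 759, 759, 1265],
   [1, 22, 22, 231, 528, 990, 990, 990, 1540, 1540, 495, 495, 45, 230, 736, 1035, 115, 115],
   [1, 22, 22, 231, 231, 990, 990, 990, 1540, 1540, 264, 264, 45, 230, 736, 1035, 115, 115, 759],
   [1, 22, 22, 231, 231, 231, 990, 990, 1540, 1540, 495, 495, 45, 230, 736, 1035, 115, 115, 759, 759],
   [1, 990, 990, 990, 990, 1540, 1540, 264, 264, 45, 230, 252, 276, 160, 160, 253, 506, 506, 759],
   [1, 231, 990, 990, 990, 1540, 1540, 495, 495, 45, 230, 252, 276, 160, 160, 253, 506, 506, 759, 759],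
   [1, 231, 990, 990, 990, 1540, 1540, 495, 495, 45, 230, 252, 276, 160, 160, 253, 253, 1265],
   [1, 22, 231, 528, 990, 990, 1540, 495, 495, 45, 230, 252, 276, 160, 160, 1265, 1265, 1265],
   [1, 22, 231, 231, 990, 990, 1540, 264, 264, 45, 230, 252, 276, 160, 160, 759, 1265, 1265, 1265],
   [1, 22, 231, 231, 231, 990, 1540, 495, 495, 45, 230, 252, 276, 160, 160, 759, 759, 1265, 1265, 1265],
   [1, 22, 231, 231, 231, 990, 1540, 495, 495, 45, 230, 252, 276, 160, 160, 506, 1265, 2024],
   [1, 22, 22, 231, 231, 231, 990, 990, 1540, 1540, 495, 495, 45, 230, 230, 230, 644, 644, 506, 1265],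
   [1, 528, 990, 990, 990, 990, 1540, 1540, 11, 11, 45, 45, 252, 276, 115, 115, 506, 506, 759],
   [1, 231, 990, 990, 990, 990, 1540, 1540, 770, 770, 45, 45, 252, 276, 115, 115, 253, 253],
   [1, 231, 231, 990, 990, 990, 1540, 1540, 11, 11, 45, 45, 252, 276, 115, 115, 506, 506, 759, 759, 759],
   [1, 231, 231, 990, 990, 990, 1540, 1540, 11, 11, 45, 45, 252, 276, 115, 115, 253, 759, 1265],
   [1, 22, 231, 528, 990, 990, 990, 1540, 770, 770, 45, 45, 252, 276, 115, 115, 1265, 1265],
   [1, 22, 231, 231, 231, 990, 990, 1540, 770, 770, 45, 45, 252, 276, 115, 115, 759, 759, 1265, 1265],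
   [1, 22, 231, 231, 231, 990, 990, 1540, 770, 770, 45, 45, 252, 276, 115, 115, 506, 2024],
   [1, 528, 990, 990, 990, 990, 1540, 11, 11, 45, 45, 230, 1035, 896, 896, 253, 506, 759],
   [1, 231, 231, 990, 990, 990, 1540, 11, 11, 45, 45, 230, 1035, 896, 896, 253, 506, 759, 759, 759],
   [1, 22, 231, 528, 990, 990, 990, 770, 770, 45, 45, 230, 1035, 896, 896, 506, 759, 759, 1265],
   [1, 22, 231, 231, 231, 990, 990, 770, 770, 45, 45, 230, 1035, 896, 896, 506, 1265, 1518],
   [1, 22, 231, 231, 231, 990, 990, 770, 770, 45, 45, 230, 1035, 896, 896, 506, 759, 759, 759, 759, 1265],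
   [1, 22, 231, 231, 231, 990, 990, 770, 770, 45, 45, 230, 1035, 896, 896, 253, 2024],
   [1, 22, 231, 231, 231, 231, 990, 11, 11, 45, 45, 230, 1035, 896, 896, 759, 1265, 2024],
   [1, 22, 231, 990, 990, 990, 990, 1540, 1540, 770, 770, 23, 230, 230, 276, 160, 160, 253],
   [1, 22, 231, 231, 990, 990, 990, 1540, 1540, 11, 11, 23, 230, 230, 276, 160, 160, 759, 1265]]

set_option synthInstance.maxSize 8192 in
set_option maxRecDepth 16000 in
theorem finals_eq : finals budget = finalsList := by decide +kernel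

theorem no_fit : ([2, 6].all fun e => (parJ e).tuples.all fun T =>
    finalsList.all fun L => !subLe (blockList (parJ e) T) L) = true := by
  decide +kernel

theorem only_target : finalsList.all (fun L =>
    !subLe [1035, 2024, 990, 990] L || L.isPerm degrees) = true := by
  decide +kernel

end CfsgLib.MTwentyThreeUnique.OrderLocal
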