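import Cfsg.Agent.Lib.MTwentyThreeUnique.OrderLocal.Tools
import Mathlib

/-!
No group of order `11 · 144` with a central Sylow 11-subgroup in which elements of order two and three never
commute.
-/

set_option autoImplicit false
set_option linter.style.haveILetI false

noncomputable section

open scoped Classical

namespace CfsgLib.MTwentyThreeUnique.OrderLocal

open Subgroup CfsgLib.SmallGroups

variable {D : Type*} [Group D] [Finite D]

/-- An element of even order gives an involution among its powers. -/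
theorem exists_invol_pow {w : D} (hw : 2 ∣ orderOf w) : ∃ i : ℕ, orderOf (w ^ i) = 2 := by
  refine ⟨orderOf w / 2, ?_⟩
  exact orderOf_pow_orderOf_div (orderOf_pos w).ne' hw

/-- A non-trivial element of a group of order `3 ^ a` gives an element of order three among its powers. -/
theorem exists_three_pow {w : D} (hw : 3 ∣ orderOf w) : ∃ i : ℕ, orderOf (w ^ i) = 3 :=
  ⟨orderOf w / 3, orderOf_pow_orderOf_div (orderOf_pos w).ne' hw⟩

/-- The group of order 1584 does not exist. -/
theorem not_1584 (hD : Nat.card D = 1584) (z : D) (hz : orderOf z = 11) (hzc : ∀ g : D, Commute z g)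
    (hsemi : ∀ t y : D, orderOf t = 2 → orderOf y = 3 → ¬ Commute t y) : False := by
  haveI : Fact (Nat.Prime 2) := ⟨Nat.prime_two⟩
  haveI : Fact (Nat.Prime 3) := ⟨Nat.prime_three⟩
  have hcom : ∀ (v w : D), 2 ∣ orderOf v → 3 ∣ orderOf w → ¬ Commute v w := fun v w hv hw h => by
    obtain ⟨i, hi⟩ := exists_invol_pow hv
    obtain ⟨j, hj⟩ := exists_three_pow hw
    exact hsemi _ _ hi hj (h.pow_pow i j)
  obtain ⟨T⟩ : Nonempty (Sylow 3 D) := inferInstance
  obtain ⟨S⟩ : Nonempty (Sylow 2 D) := inferInstance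
  have hTc : ∀ T : Sylow 3 D, Nat.card (T : Subgroup D) = 9 := fun T => by
    simpa using card_sylow_eq (show Nat.card D = 3 ^ 2 * 176 by rw [hD]; norm_num) (by norm_num) T
  have hSc : Nat.card (S : Subgroup D) = 16 := by
    simpa using card_sylow_eq (show Nat.card D = 2 ^ 4 * 99 by rw [hD]; norm_num) (by norm_num) S
  have hTord : ∀ (T : Sylow 3 D) (w : D), w ∈ (T : Subgroup D) → w ≠ 1 → 3 ∣ orderOf w := fun T w hw hw1 => by
    obtain ⟨i, -, hi⟩ := (Nat.dvd_prime_pow Nat.prime_three).1
      (show orderOf w ∣ 3 ^ 2 from (Subgroup.orderOf_dvd_natCard _ hw).trans (by rw [hTc T]; norm_num))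
    have : i ≠ 0 := fun h => hw1 (orderOf_eq_one_iff.1 (by rw [hi, h, pow_zero]))
    exact hi ▸ dvd_pow_self 3 this
  have hSord : ∀ w : D, w ∈ (S : Subgroup D) → w ≠ 1 → 2 ∣ orderOf w := fun w hw hw1 => by
    obtain ⟨i, -, hi⟩ := (Nat.dvd_prime_pow Nat.prime_two).1
      (show orderOf w ∣ 2 ^ 4 from (Subgroup.orderOf_dvd_natCard _ hw).trans (by rw [hSc]; norm_num))
    have : i ≠ 0 := fun h => hw1 (orderOf_eq_one_iff.1 (by rw [hi, h, pow_zero]))
    exact hi ▸ dvd_pow_self 2 this
  have hzN : ∀ H : Subgroup D, z ∈ normalizer (H : Set D) := fun H w => by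
    rw [(hzc w).eq, mul_inv_cancel_right]
  have hn3 := card_sylow_mul_card_normalizer T
  have h99 : 99 ∣ Nat.card (normalizer ((T : Subgroup D) : Set D)) := by
    refine Nat.Coprime.mul_dvd_of_dvd_of_dvd (by norm_num : Nat.Coprime 9 11) ?_ ?_
    · exact hTc T ▸ card_dvd_of_le le_normalizer
    · exact hz ▸ Subgroup.orderOf_dvd_natCard _ (hzN _)
  have hmod : Nat.card (Sylow 3 D) % 3 = 1 := mod_eq_one_card_sylow
  obtain ⟨c, hc⟩ := h99
  rw [hD, hc] at hn3
  have hn16 : Nat.card (Sylow 3 D) ∣ 16 := ⟨c, by linarith⟩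
  obtain ⟨i, hi, hni⟩ := (Nat.dvd_prime_pow Nat.prime_two).1 (show Nat.card (Sylow 3 D) ∣ 2 ^ 4 from hn16)
  rw [hni] at hmod
  interval_cases i <;> norm_num at hmod <;> norm_num at hni
  · -- the Sylow 3-subgroup is normal
    haveI : Subsingleton (Sylow 3 D) := (Nat.card_eq_one_iff_unique.1 hni).1
    haveI : (T : Subgroup D).Normal := Sylow.normal_of_subsingleton T
    obtain ⟨y, hy⟩ := exists_prime_orderOf_dvd_card' (G := (T : Subgroup D)) 3 (by rw [hTc]; norm_num)
    have hyo : orderOf (y : D) = 3 := by rw [Subgroup.orderOf_coe, hy]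
    have hy1 : (y : D) ≠ 1 := fun h => by rw [h, orderOf_one] at hyo; norm_num at hyo
    let f : ↥(S : Subgroup D) → {w : (T : Subgroup D) // w ≠ 1} := fun s =>
      ⟨⟨(s : D) * y * (s : D)⁻¹, Subgroup.Normal.conj_mem inferInstance _ y.2 _⟩,
        fun h => hy1 (conj_eq_one_iff.1 (congrArg Subtype.val h))⟩
    have hf : Function.Injective f := fun s s' h => by
      have h' : (s : D) * y * (s : D)⁻¹ = (s' : D) * y * (s' : D)⁻¹ :=
        congrArg (fun w : {w : (T : Subgroup D) // w ≠ 1} => ((w : (T : Subgroup D)) : D)) h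
      by_contra hne
      have hw : (s' : D)⁻¹ * (s : D) ≠ 1 := fun h => hne (Subtype.ext (inv_mul_eq_one.1 h).symm)
      refine hcom _ y (hSord _ (mul_mem (inv_mem s'.2) s.2) hw) (dvd_of_eq hyo.symm) ?_
      show (s' : D)⁻¹ * (s : D) * y = y * ((s' : D)⁻¹ * (s : D))
      calc (s' : D)⁻¹ * (s : D) * y = (s' : D)⁻¹ * ((s : D) * y * (s : D)⁻¹) * (s : D) := by group
        _ = y * ((s' : D)⁻¹ * (s : D)) := by rw [h']; group
    have hle := Nat.card_le_card_of_injective f hf
    haveI := Fintype.ofFinite (T : Subgroup D)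
    rw [hSc, Nat.card_eq_fintype_card (α := {w : (T : Subgroup D) // w ≠ 1}), Fintype.card_subtype_compl,
      Fintype.card_subtype_eq, ← Nat.card_eq_fintype_card, hTc] at hle
    omega
  · -- four Sylow 3-subgroups
    haveI := Fintype.ofFinite (Sylow 3 D)
    let φ : D →* Equiv.Perm (Sylow 3 D) := MulAction.toPermHom D (Sylow 3 D)
    have hq : Nat.card φ.range ∣ 24 := by
      have h := Subgroup.card_subgroup_dvd_card φ.range
      rwa [Nat.card_perm, hni] at h
    have hmul := φ.ker.card_mul_index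
    rw [Subgroup.index_ker, hD] at hmul
    have h3M : 3 ∣ Nat.card φ.ker := by
      obtain ⟨a, ha⟩ := hq
      have h1 : Nat.card φ.ker * 24 = 1584 * a := by
        rw [ha, ← mul_assoc, hmul]
      omega
    obtain ⟨y, hy⟩ := exists_prime_orderOf_dvd_card' (G := φ.ker) 3 h3M
    have hyo : orderOf (y : D) = 3 := by rw [Subgroup.orderOf_coe, hy]
    have hall : ∀ w : D, w ∈ φ.ker → orderOf w = 3 → ∀ Q : Sylow 3 D, w ∈ (Q : Subgroup D) := by
      intro w hw hwo Q
      have hwN : w ∈ normalizer ((Q : Subgroup D) : Set D) :=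
        Sylow.smul_eq_iff_mem_normalizer.1 (congrArg (fun e : Equiv.Perm (Sylow 3 D) => e Q)
          (MonoidHom.mem_ker.1 hw))
      have hpg : IsPGroup 3 (zpowers w) := IsPGroup.of_card (n := 1) (by rw [Nat.card_zpowers, hwo, pow_one])
      have h1 : zpowers w ⊓ normalizer ((Q : Subgroup D) : Set D) = zpowers w ⊓ (Q : Subgroup D) :=
        hpg.inf_normalizer_sylow Q
      exact (h1.le ⟨mem_zpowers w, hwN⟩).2
    obtain ⟨T', hT'⟩ : ∃ T' : Sylow 3 D, T' ≠ T := by
      by_contra hne
      push_neg at hne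
      haveI : Subsingleton (Sylow 3 D) := ⟨fun A B => (hne A).trans (hne B).symm⟩
      have := Nat.card_of_subsingleton T
      omega
    set Y : Subgroup D := (T : Subgroup D) ⊓ (T' : Subgroup D) with hY
    have hY3 : Nat.card Y = 3 := by
      obtain ⟨j, hj, hYj⟩ := (Nat.dvd_prime_pow Nat.prime_three).1
        (show Nat.card Y ∣ 3 ^ 2 from (card_dvd_of_le inf_le_left).trans (by rw [hTc T]; norm_num))
      have h3 : 3 ∣ Nat.card Y := hyo ▸ Subgroup.orderOf_dvd_natCard _ ⟨hall _ y.2 hyo T, hall _ y.2 hyo T'⟩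
      interval_cases j
      · rw [hYj] at h3; norm_num at h3
      · simpa using hYj
      · refine absurd ?_ hT'
        have h1 : Y = (T : Subgroup D) := eq_of_le_of_card_ge inf_le_left (by rw [hYj, hTc]; norm_num)
        have h2 : Y = (T' : Subgroup D) := eq_of_le_of_card_ge inf_le_right (by rw [hYj, hTc]; norm_num)
        exact Sylow.ext (h2.symm.trans h1)
    haveI := Fintype.ofFinite Y
    let f : D ⧸ centralizer ({(y : D)} : Set D) → {w : Y // w ≠ 1} := fun q =>
      ⟨⟨q.out * y * q.out⁻¹, by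
        have hk : q.out * y * q.out⁻¹ ∈ φ.ker := Subgroup.Normal.conj_mem inferInstance _ y.2 _
        have ho : orderOf (q.out * (y : D) * q.out⁻¹) = 3 :=
          (show orderOf (MulAut.conj q.out (y : D)) = 3 from (MulEquiv.orderOf_eq _ _).trans hyo)
        exact ⟨hall _ hk ho T, hall _ hk ho T'⟩⟩,
        fun h => by
          have : (y : D) = 1 := conj_eq_one_iff.1 (congrArg Subtype.val h)
          rw [this, orderOf_one] at hyo
          norm_num at hyo⟩
    have hf : Function.Injective f := fun a b h => by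
      have h' : a.out * (y : D) * a.out⁻¹ = b.out * (y : D) * b.out⁻¹ :=
        congrArg (fun w : {w : Y // w ≠ 1} => ((w : Y) : D)) h
      rw [← a.out_eq', ← b.out_eq', QuotientGroup.eq, mem_centralizer_singleton_iff]
      calc a.out⁻¹ * b.out * (y : D) = a.out⁻¹ * (b.out * (y : D) * b.out⁻¹) * b.out := by group
        _ = (y : D) * (a.out⁻¹ * b.out) := by rw [← h']; group
    have hle := Nat.card_le_card_of_injective f hf
    rw [Nat.card_eq_fintype_card (α := {w : Y // w ≠ 1}), Fintype.card_subtype_compl,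
      Fintype.card_subtype_eq, ← Nat.card_eq_fintype_card, hY3, ← Subgroup.index] at hle
    have hidx := (centralizer ({(y : D)} : Set D)).card_mul_index
    rw [hD] at hidx
    have hpos : 0 < (centralizer ({(y : D)} : Set D)).index :=
      Nat.pos_of_ne_zero (centralizer ({(y : D)} : Set D)).index_ne_zero_of_finite
    have h2 : 2 ∣ Nat.card (centralizer ({(y : D)} : Set D)) := by
      interval_cases (centralizer ({(y : D)} : Set D)).index <;> omega
    obtain ⟨t, ht⟩ := exists_prime_orderOf_dvd_card' (G := centralizer ({(y : D)} : Set D)) 2 h2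
    exact hsemi t y (by rw [Subgroup.orderOf_coe, ht]) hyo (mem_centralizer_singleton_iff.1 t.2)
  · -- sixteen Sylow 3-subgroups
    have hc1 : c = 1 := by
      rw [hni] at hn3
      omega
    rw [hc1, mul_one] at hc
    haveI : IsMulCommutative (T : Subgroup D) :=
      IsPGroup.isMulCommutative_of_card_eq_prime_sq (p := 3) (by rw [hTc]; norm_num)
    have hle : zpowers z ⊔ (T : Subgroup D) ≤ centralizer ((T : Subgroup D) : Set D) :=
      sup_le (zpowers_le.2 (mem_centralizer_iff.2 fun w _ => (hzc w).eq.symm)) (le_centralizer _)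
    have hNC : normalizer ((T : Subgroup D) : Set D) ≤ centralizer ((T : Subgroup D) : Set D) := by
      have h1 : zpowers z ⊔ (T : Subgroup D) = normalizer ((T : Subgroup D) : Set D) := by
        refine eq_of_le_of_card_ge (sup_le (zpowers_le.2 (hzN _)) le_normalizer) ?_
        rw [hc]
        refine Nat.le_of_dvd Nat.card_pos (Nat.Coprime.mul_dvd_of_dvd_of_dvd (by norm_num : Nat.Coprime 9 11) ?_ ?_)
        · exact hTc T ▸ card_dvd_of_le le_sup_right
        · exact hz ▸ Subgroup.orderOf_dvd_natCard _ (le_sup_left (a := zpowers z) (mem_zpowers z))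
      exact h1 ▸ hle
    set R := (MonoidHom.transferSylow T hNC).ker with hR
    have hcompl := MonoidHom.ker_transferSylow_isComplement' T hNC
    have hRc : Nat.card R = 176 := by
      have h0 := hcompl.card_mul
      rw [hTc, hD, ← hR] at h0
      omega
    have hSR : (S : Subgroup D) ≤ R := by
      obtain ⟨S'⟩ : Nonempty (Sylow 2 R) := inferInstance
      intro w hw
      by_contra hwR
      have h : orderOf (MonoidHom.transferSylow T hNC w) ∣ 1 := by
        have h1 : orderOf (MonoidHom.transferSylow T hNC w) ∣ 16 :=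
          (orderOf_map_dvd _ w).trans (hSc ▸ Subgroup.orderOf_dvd_natCard _ hw)
        have h2 : orderOf (MonoidHom.transferSylow T hNC w) ∣ 9 := hTc T ▸ orderOf_dvd_natCard _
        exact Nat.dvd_gcd h1 h2
      exact hwR (MonoidHom.mem_ker.2 (orderOf_eq_one_iff.1 (Nat.dvd_one.1 h)))
    haveI : R.Normal := MonoidHom.normal_ker _
    -- the Sylow 2-subgroup is normal
    have hSn : ∀ Q : Sylow 2 D, Q = S := by
      have h176 : 176 ∣ Nat.card (normalizer ((S : Subgroup D) : Set D)) :=
        Nat.Coprime.mul_dvd_of_dvd_of_dvd (by norm_num : Nat.Coprime 16 11) (hSc ▸ card_dvd_of_le le_normalizer)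
          (hz ▸ Subgroup.orderOf_dvd_natCard _ (hzN _))
      intro Q
      have hQR : (Q : Subgroup D) ≤ R := by
        obtain ⟨g, hg⟩ := MulAction.exists_smul_eq D S Q
        rw [← hg, Sylow.coe_subgroup_smul]
        rintro _ ⟨w, hw, rfl⟩
        exact Subgroup.Normal.conj_mem inferInstance _ (hSR hw) g
      have hN : R ≤ normalizer ((S : Subgroup D) : Set D) := by
        have h1 : zpowers z ⊔ (S : Subgroup D) = R := by
          refine eq_of_le_of_card_ge (sup_le (zpowers_le.2 ?_) hSR) ?_
          · refine MonoidHom.mem_ker.2 (orderOf_eq_one_iff.1 (Nat.dvd_one.1 ?_))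
            exact Nat.dvd_gcd ((orderOf_map_dvd _ z).trans (dvd_of_eq hz))
              (show _ ∣ 9 from hTc T ▸ orderOf_dvd_natCard _)
          · rw [hRc]
            refine Nat.le_of_dvd Nat.card_pos
              (Nat.Coprime.mul_dvd_of_dvd_of_dvd (by norm_num : Nat.Coprime 16 11) ?_ ?_)
            · exact hSc ▸ card_dvd_of_le le_sup_right
            · exact hz ▸ Subgroup.orderOf_dvd_natCard _ (le_sup_left (a := zpowers z) (mem_zpowers z))
        exact h1 ▸ sup_le (zpowers_le.2 (hzN _)) le_normalizer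
      refine (sylow_eq_of_normalizes Q S (hQR.trans hN))
    haveI : Subsingleton (Sylow 2 D) := ⟨fun A B => (hSn A).trans (hSn B).symm⟩
    haveI : (S : Subgroup D).Normal := Sylow.normal_of_subsingleton S
    haveI := Fintype.ofFinite (S : Subgroup D)
    -- semiregular action of `T`
    have orb : ∀ v : (S : Subgroup D), v ≠ 1 → ∃ O : Finset (S : Subgroup D), O.card = 9 ∧ v ∈ O ∧ 1 ∉ O ∧
        (∀ w ∈ O, ∃ s ∈ (T : Subgroup D), s * (v : D) * s⁻¹ = w) ∧
        ∀ w : (S : Subgroup D), ∀ s ∈ (T : Subgroup D), s * (v : D) * s⁻¹ = w → w ∈ O := by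
      intro v hv
      haveI := Fintype.ofFinite (T : Subgroup D)
      let g : ↥(T : Subgroup D) → ↥(S : Subgroup D) := fun s =>
        ⟨(s : D) * v * (s : D)⁻¹, Subgroup.Normal.conj_mem inferInstance _ v.2 _⟩
      have hg : Function.Injective g := fun s s' h => by
        have h' : (s : D) * v * (s : D)⁻¹ = (s' : D) * v * (s' : D)⁻¹ := congrArg Subtype.val h
        by_contra hne
        have hw : (s' : D)⁻¹ * (s : D) ≠ 1 := fun h => hne (Subtype.ext (inv_mul_eq_one.1 h).symm)
        refine hcom v _ (hSord _ v.2 fun h => hv (Subtype.ext h)) (hTord T _ (mul_mem (inv_mem s'.2) s.2) hw) ?_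
        show (v : D) * ((s' : D)⁻¹ * (s : D)) = (s' : D)⁻¹ * (s : D) * v
        calc (v : D) * ((s' : D)⁻¹ * (s : D))
            = (s' : D)⁻¹ * ((s' : D) * v * (s' : D)⁻¹) * (s : D) := by group
          _ = (s' : D)⁻¹ * (s : D) * v := by rw [← h']; group
      refine ⟨Finset.univ.image g, ?_, ?_, ?_, ?_, fun w s hs e =>
        Finset.mem_image.2 ⟨⟨s, hs⟩, Finset.mem_univ _, Subtype.ext e⟩⟩
      · rw [Finset.card_image_of_injective _ hg, Finset.card_univ, ← Nat.card_eq_fintype_card, hTc]
      · exact Finset.mem_image.2 ⟨1, Finset.mem_univ _, Subtype.ext (by simp [g])⟩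
      · intro h
        obtain ⟨s, -, hs⟩ := Finset.mem_image.1 h
        exact hv (Subtype.ext (conj_eq_one_iff.1 (congrArg Subtype.val hs)))
      · intro w hw
        obtain ⟨s, -, rfl⟩ := Finset.mem_image.1 hw
        exact ⟨s, s.2, rfl⟩
    obtain ⟨v, hv⟩ := exists_prime_orderOf_dvd_card' (G := (S : Subgroup D)) 2 (by rw [hSc]; norm_num)
    obtain ⟨O, hO, -, hO1, hOr, hOm⟩ := orb v (fun h => by rw [h, orderOf_one] at hv; norm_num at hv)
    obtain ⟨w, hw⟩ : ∃ w, w ∉ insert (1 : (S : Subgroup D)) O := by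
      by_contra hne
      push_neg at hne
      have := Finset.card_le_card (s := Finset.univ) (t := insert (1 : (S : Subgroup D)) O) fun a _ => hne a
      rw [Finset.card_univ, ← Nat.card_eq_fintype_card, hSc, Finset.card_insert_of_notMem hO1, hO] at this
      omega
    rw [Finset.mem_insert, not_or] at hw
    obtain ⟨O', hO', -, hO1', hOr', -⟩ := orb w hw.1
    have hdis : Disjoint O O' := Finset.disjoint_left.2 fun a ha ha' => hw.2 (by
      obtain ⟨s, hs, e⟩ := hOr a ha
      obtain ⟨s', hs', e'⟩ := hOr' a ha'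
      refine hOm w (s'⁻¹ * s) (mul_mem (inv_mem hs') hs) ?_
      rw [show s'⁻¹ * s * (v : D) * (s'⁻¹ * s)⁻¹ = s'⁻¹ * (s * v * s⁻¹) * s' by group, e, ← e']
      group)
    have := Finset.card_le_univ (O ∪ O')
    rw [Finset.card_union_of_disjoint hdis, hO, hO', ← Nat.card_eq_fintype_card, hSc] at this
    omega

end CfsgLib.MTwentyThreeUnique.OrderLocal
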