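import Cfsg.Agent.Lib.MTwentyThreeUnique.OrderLocal.TwentyThree
import Cfsg.Agent.Lib.MTwentyThreeUnique.OrderLocal.OneFourFour
import Cfsg.Agent.Lib.MTwentyTwoUnique.SelfCent
import Mathlib

/-!
The Sylow 11-subgroup is self-centralising with normaliser of order 55.
-/

set_option autoImplicit false
set_option linter.style.haveILetI false
set_option linter.unusedSectionVars false

noncomputable section

open scoped Classical

namespace CfsgLib.MTwentyThreeUnique.OrderLocal

open Subgroup CfsgLib.InvolChar CfsgLib.Blocks.PrimeSylow CfsgLib.SmallGroups CfsgLib.SmallSimple Cfsg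
open CfsgLib.MTwentyTwoUnique (SC exists_sc)
open CfsgLib.MTwentyTwoUnique.FromOrder (reg invSet exists_sylow_zpowers relIndex_and_reg exists_involution
  sylow_le_centralizer dvs mem_dvs invSet_eq_empty)

variable {G : Type*} [Group G] [Fintype G]

/-- Degrees are `0`, `±1` or `±e` at a self-centralising Sylow subgroup. -/
theorem res_of_sc {p e : ℕ} (B : SC G p e) (hp : 1 < p) (he : 0 < e) (hep : e < p) (χ : IrrCharacter G) :
    deg χ % p ∈ [0, 1, p - 1, e, p - e] := by
  simp only [List.mem_cons, List.not_mem_nil, or_false]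
  by_cases hX : χ ∈ B.X
  · have h := Int.modEq_iff_dvd.2 (B.deg_X χ hX)
    rcases B.s_sq χ hX with k | k <;> rw [k] at h
    · have h' : ((1 : ℕ) : ℤ) % p = (deg χ : ℤ) % p := h
      rw [← Int.natCast_emod, ← Int.natCast_emod, Nat.mod_eq_of_lt hp] at h'
      omega
    · have h' : ((p - 1 : ℕ) : ℤ) % p = (deg χ : ℤ) % p := by
        rw [Nat.cast_sub hp.le, Nat.cast_one, show (p : ℤ) - 1 = -1 + p by ring, Int.add_emod_right]
        exact h
      rw [← Int.natCast_emod, ← Int.natCast_emod, Nat.mod_eq_of_lt (by omega : p - 1 < p)] at h'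
      omega
  · by_cases hY : χ ∈ B.Y
    · have h := Int.modEq_iff_dvd.2 B.deg_f
      rw [← B.deg_Y χ hY] at h
      rcases B.ε_sq with k | k <;> rw [k] at h
      · have h' : ((e : ℕ) : ℤ) % p = (deg χ : ℤ) % p := by rw [one_mul] at h; exact h
        rw [← Int.natCast_emod, ← Int.natCast_emod, Nat.mod_eq_of_lt hep] at h'
        omega
      · have h' : ((p - e : ℕ) : ℤ) % p = (deg χ : ℤ) % p := by
          rw [Nat.cast_sub hep.le, show (p : ℤ) - e = -1 * e + p by ring, Int.add_emod_right]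
          exact h
        rw [← Int.natCast_emod, ← Int.natCast_emod, Nat.mod_eq_of_lt (by omega : p - e < p)] at h'
        omega
    · exact Or.inl (Nat.mod_eq_zero_of_dvd (B.out_dvd χ hX hY))

theorem self_twentyThree (hG : SG G) : ∀ x : G, orderOf x = 23 →
    Nat.card (centralizer ({x} : Set G)) = 23 := fun x hx => (twentyThree hG x hx).1

/-- A self-centralising prime does not divide the other centralisers. -/
theorem not_dvd_centralizer {q : ℕ} (hq : q.Prime)
    (hself : ∀ x : G, orderOf x = q → Nat.card (centralizer ({x} : Set G)) = q) {w : G}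
    (hw1 : w ≠ 1) (hwq : orderOf w ≠ q) : ¬ q ∣ Nat.card (centralizer ({w} : Set G)) := fun h => by
  haveI : Fact q.Prime := ⟨hq⟩
  obtain ⟨z, hz⟩ := exists_prime_orderOf_dvd_card' (G := centralizer ({w} : Set G)) q h
  have h1 : orderOf w ∣ q := by
    rw [← hself z (by rw [Subgroup.orderOf_coe, hz])]
    exact Subgroup.orderOf_dvd_natCard _ (mem_centralizer_singleton_iff.2
      (mem_centralizer_singleton_iff.1 z.2).symm)
  rcases (Nat.dvd_prime hq).1 h1 with h2 | h2
  · exact hw1 (orderOf_eq_one_iff.1 h2)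
  · exact hwq h2

/-- The residues at 23 of the degrees. -/
theorem okA_deg (hG : SG G) (χ : IrrCharacter G) : okA (deg χ) = true := by
  haveI : Fact (Nat.Prime 23) := ⟨by norm_num⟩
  haveI := hG.simple
  have hnG : Nat.card G = 23 * 443520 := by rw [hG.card]
  obtain ⟨x, hx⟩ := exists_prime_orderOf_dvd_card' (G := G) 23 (by rw [hG.card]; norm_num)
  obtain ⟨P, hPx, hcx⟩ := exists_sylow_zpowers hnG (by norm_num) hx
  have hP := Band6232.card_of_prime hnG (by norm_num) P
  obtain ⟨hC, hN⟩ := twentyThree hG x hx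
  obtain ⟨B⟩ := exists_sc P hP (hcx ▸ hC) 11
    (relIndex_and_reg P hP (r := 11) (u := 1) (by rw [hPx, hN]) (by rw [← hcx, hC])).1
  exact decide_eq_true (res_of_sc B (by norm_num) (by norm_num) (by norm_num) χ)

variable [Fact (Nat.Prime 11)]

/-- An involution centralising `P` and an element of order five of its normaliser. -/
theorem exists_invol_five (hG : SG G) (P : Sylow 11 G) {r u a m : ℕ} (hr : 5 ∣ r) (hu : ¬ 5 ∣ 11 * u)
    (hN : Nat.card (normalizer ((P : Subgroup G) : Set G)) = 11 * (r * u))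
    (hC : Nat.card (centralizer ((P : Subgroup G) : Set G)) = 11 * u) (hm : 11 * u = 2 ^ a * m)
    (hm2 : ¬ 2 ∣ m) (ha : 2 ^ a % 5 ≠ 1) :
    ∃ t : G, t * t = 1 ∧ t ≠ 1 ∧ t ∈ centralizer ((P : Subgroup G) : Set G) ∧
      22 ∣ Nat.card (centralizer ({t} : Set G)) ∧ 5 ∣ Nat.card (centralizer ({t} : Set G)) := by
  haveI : Fact (Nat.Prime 2) := ⟨Nat.prime_two⟩
  haveI := hG.simple
  obtain ⟨b, -, hb, F, hFC, hFb, hF1, hF2⟩ := exists_fixed P (r := 5) (q := 2) (a := a) (m := m)
    (by norm_num) Nat.prime_two (by rw [hN]; exact dvd_mul_of_dvd_right (dvd_mul_of_dvd_left hr u) 11)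
    (by rw [hC]; exact hu) (hC.trans hm) hm2
  obtain ⟨i, -, hi⟩ := (Nat.dvd_prime_pow Nat.prime_two).1 hF1
  have hi0 : i ≠ 0 := fun h => ha (by rw [← hF2, hi, h]; rfl)
  obtain ⟨t', ht'⟩ := exists_prime_orderOf_dvd_card' (G := F) 2 (hi ▸ dvd_pow_self 2 hi0)
  have hto : orderOf (t' : G) = 2 := by rw [Subgroup.orderOf_coe, ht']
  have htC := hFC t'.2
  have h2 := pow_orderOf_eq_one (t' : G)
  rw [hto, sq] at h2
  refine ⟨t', h2, fun h => by rw [h, orderOf_one] at hto; norm_num at hto, htC, ?_,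
    hb ▸ Subgroup.orderOf_dvd_natCard _ (mem_centralizer_singleton_iff.2 (hFb _ t'.2).eq)⟩
  refine Nat.Coprime.mul_dvd_of_dvd_of_dvd (by norm_num : Nat.Coprime 2 11) ?_ ?_
  · exact hto ▸ Subgroup.orderOf_dvd_natCard _ (mem_centralizer_singleton_iff.2 rfl)
  · have h := card_dvd_of_le (sylow_le_centralizer P htC)
    rwa [Band6232.card_of_prime (show Nat.card G = 11 * 927360 by rw [hG.card]) (by norm_num) P] at h

/-- No normaliser of order `2 · 63 · 11`. -/
theorem not_sixtyThree (hG : SG G) (P : Sylow 11 G) (hk : Nat.card (Sylow 11 G) = 7360)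
    (hN : Nat.card (normalizer ((P : Subgroup G) : Set G)) = 11 * (2 * 63))
    (hC : Nat.card (centralizer ((P : Subgroup G) : Set G)) = 11 * 63) : False := by
  haveI := hG.simple
  haveI : Fact (Nat.Prime 7) := ⟨by norm_num⟩
  haveI : Fact (Nat.Prime 3) := ⟨by norm_num⟩
  have hnG : Nat.card G = 11 * 927360 := by rw [hG.card]
  have hP := Band6232.card_of_prime hnG (by norm_num) P
  set D := centralizer ((P : Subgroup G) : Set G)
  obtain ⟨Q⟩ : Nonempty (Sylow 7 D) := inferInstance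
  have hQ : Nat.card (Q : Subgroup D) = 7 := by
    simpa using card_sylow_eq (show Nat.card D = 7 ^ 1 * 99 by rw [hC]; norm_num) (by norm_num) Q
  set PD := (P : Subgroup G).subgroupOf D
  have hPD : PD ≤ centralizer ((Q : Subgroup D) : Set D) := fun x hx =>
    mem_centralizer_iff.2 fun y _ => Subtype.ext (mem_centralizer_iff.1 y.2 _ (mem_subgroupOf.1 hx)).symm
  haveI : IsMulCommutative (Q : Subgroup D) :=
    haveI := isCyclic_of_prime_card (p := 7) hQ
    inferInstance
  have h77 : 77 ∣ Nat.card (centralizer ((Q : Subgroup D) : Set D)) := by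
    refine Nat.Coprime.mul_dvd_of_dvd_of_dvd (by norm_num : Nat.Coprime 7 11) ?_ ?_
    · have h := card_dvd_of_le (Subgroup.le_centralizer (Q : Subgroup D))
      rwa [hQ] at h
    · have h := card_dvd_of_le hPD
      rwa [Nat.card_congr (subgroupOfEquivOfLe (by
        haveI := isCyclic_of_prime_card (p := 11) hP
        haveI : IsMulCommutative (P : Subgroup G) := inferInstance
        exact Subgroup.le_centralizer _)).toEquiv, hP] at h
  have hidx : (centralizer ((Q : Subgroup D) : Set D)).relIndex (normalizer ((Q : Subgroup D) : Set D)) ∣ 6 :=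
    CfsgLib.Blocks.PrimeSylow.relIndex_dvd Q hQ
  have h1 := card_sylow_mul_card_normalizer Q
  have h2 := Order459648.card_centralizer_mul_relIndex (Q : Subgroup D)
  rw [hC] at h1
  have h3 : 3 ∣ Nat.card (centralizer ((Q : Subgroup D) : Set D)) := by
    obtain ⟨a, ha⟩ := h77
    have hn := card_sylow_modEq_one 7 D
    set n := Nat.card (Sylow 7 D)
    set d := (centralizer ((Q : Subgroup D) : Set D)).relIndex (normalizer ((Q : Subgroup D) : Set D))
    rw [← h2, ha] at h1
    have h4 : n * (a * d) = 9 := by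
      have h5 : 77 * (n * (a * d)) = 77 * 9 := by rw [show (77 : ℕ) * 9 = 11 * 63 by norm_num, ← h1]; ring
      omega
    have hnd : n ∣ 9 := Dvd.intro _ h4
    have hn1 : n = 1 := by
      have : ∀ k ∈ Nat.divisors 9, k % 7 = 1 → k = 1 := by decide
      exact this n (Nat.mem_divisors.mpr ⟨hnd, by norm_num⟩) hn
    rw [hn1, one_mul] at h4
    have hd9 : d ∣ 3 := (Nat.dvd_gcd hidx (Dvd.intro_left _ h4)).trans (by norm_num)
    rw [ha]
    rcases (Nat.dvd_prime Nat.prime_three).1 hd9 with h | h <;> rw [h] at h4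
    · exact dvd_mul_of_dvd_right ⟨3, by omega⟩ _
    · exact dvd_mul_of_dvd_right ⟨1, by omega⟩ _
  obtain ⟨z', hz'⟩ := exists_prime_orderOf_dvd_card' (G := centralizer ((Q : Subgroup D) : Set D)) 3 h3
  obtain ⟨y', hy'⟩ := exists_prime_orderOf_dvd_card' (G := (Q : Subgroup D)) 7 (by rw [hQ])
  set z : G := ((z' : D) : G) with hz
  set y : G := ((y' : D) : G) with hy
  have hzo : orderOf z = 3 := by rw [hz, Subgroup.orderOf_coe, Subgroup.orderOf_coe, hz']
  have hyo : orderOf y = 7 := by rw [hy, Subgroup.orderOf_coe, Subgroup.orderOf_coe, hy']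
  have hyC : y ∈ D := y'.1.2
  have hzy : z * y = y * z := congrArg Subtype.val (mem_centralizer_iff.1 z'.2 _ y'.2).symm
  obtain ⟨j, hj1, hj2, hj3, -, hcard⟩ := local_card hG.not_comm hG.card (m := 927360) (by norm_num)
    (by norm_num) P hk hN hC (q := 7) (by norm_num) (by norm_num) (by norm_num) hyo hyC
  set H := normalizer ((P : Subgroup G) : Set G) ⊓ centralizer ({y} : Set G) with hH
  have hPH := sylow_le_centralizer P hyC
  have h231 : 231 ∣ Nat.card H := by
    refine Nat.Coprime.mul_dvd_of_dvd_of_dvd (by norm_num : Nat.Coprime 21 11) ?_ ?_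
    · refine Nat.Coprime.mul_dvd_of_dvd_of_dvd (by norm_num : Nat.Coprime 3 7) ?_ ?_
      · exact hzo ▸ Subgroup.orderOf_dvd_natCard _
          ⟨centralizer_le_normalizer _ z'.1.2, mem_centralizer_singleton_iff.2 hzy⟩
      · exact hyo ▸ Subgroup.orderOf_dvd_natCard _
          ⟨centralizer_le_normalizer _ hyC, mem_centralizer_singleton_iff.2 rfl⟩
    · have h := card_dvd_of_le (le_inf le_normalizer hPH :
        (P : Subgroup G) ≤ normalizer ((P : Subgroup G) : Set G) ⊓ centralizer ({y} : Set G))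
      rwa [hP] at h
  have hd : j * 231 ∣ 231 * 44160 := (Nat.mul_dvd_mul_left j h231).trans
    ((dvd_of_eq hcard.symm).trans ((card_subgroup_dvd_card _).trans (dvd_of_eq hG.card)))
  have hj : j ∣ 44160 := Nat.dvd_of_mul_dvd_mul_left (by norm_num : 0 < 231) (by rwa [mul_comm j] at hd)
  have key : ∀ k ∈ dvs [128, 3, 5, 23], k < 7360 → k % 11 = 1 → k % 7 = 7360 % 7 → k % 23 = 0 := by
    decide +kernel
  refine not_dvd_centralizer (q := 23) (by norm_num) (self_twentyThree hG) (w := y)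
    (fun h => by rw [h, orderOf_one] at hyo; norm_num at hyo) (by rw [hyo]; norm_num) ?_
  rw [hcard]
  exact dvd_mul_of_dvd_left (Nat.dvd_of_mod_eq_zero
    (key j (mem_dvs [128, 3, 5, 23] (by simp) (by simpa using hj)) hj1 hj2 hj3)) _

/-- No normaliser of order `5 · 144 · 11`. -/
theorem not_oneFourFour (hG : SG G) (P : Sylow 11 G) (hk : Nat.card (Sylow 11 G) = 1288)
    (hN : Nat.card (normalizer ((P : Subgroup G) : Set G)) = 11 * (5 * 144))
    (hC : Nat.card (centralizer ((P : Subgroup G) : Set G)) = 11 * 144) : False := by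
  haveI := hG.simple
  haveI : Fact (Nat.Prime 3) := ⟨Nat.prime_three⟩
  have hnG : Nat.card G = 11 * 927360 := by rw [hG.card]
  have hP := Band6232.card_of_prime hnG (by norm_num) P
  obtain ⟨z, hz⟩ := exists_prime_orderOf_dvd_card' (G := (P : Subgroup G)) 11 (by rw [hP])
  haveI : IsMulCommutative (P : Subgroup G) :=
    haveI := isCyclic_of_prime_card (p := 11) hP
    inferInstance
  set D := centralizer ((P : Subgroup G) : Set G) with hD
  have hzD : (z : G) ∈ D := Subgroup.le_centralizer (P : Subgroup G) z.2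
  refine not_1584 (D := D) (by rw [hC]) ⟨z, hzD⟩ (by rw [Subgroup.orderOf_mk, Subgroup.orderOf_coe, hz])
    (fun g => Subtype.ext (mem_centralizer_iff.1 g.2 _ z.2)) fun t' y' hto hyo hcomm => ?_
  have ht : orderOf (t' : G) = 2 := by rw [Subgroup.orderOf_coe, hto]
  have hy : orderOf (y' : G) = 3 := by rw [Subgroup.orderOf_coe, hyo]
  have hty : Commute (t' : G) (y' : G) := congrArg Subtype.val hcomm.eq
  set t : G := (t' : G)
  set y : G := (y' : G)
  obtain ⟨hy1, hy2, hy3, hy4⟩ := Band6232.fixCard_facts hG.not_comm P hP hk (by norm_num) Nat.prime_three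
    (by norm_num) hy y'.2 (Band6232.centralizes_of_coprime P hN hC hy (by norm_num))
  obtain ⟨ht1, ht2, ht3, ht4⟩ := Band6232.fixCard_facts hG.not_comm P hP hk (by norm_num) Nat.prime_two
    (by norm_num) ht t'.2 (Band6232.centralizes_of_coprime P hN hC ht (by norm_num))
  rw [hG.card] at hy4 ht4
  have keyy : ∀ k ∈ dvs [128, 9, 5, 7, 23], k < 1288 → k % 11 = 1 → k % 3 = 1288 % 3 →
      11 * 3 * k ∣ 10200960 → k = 1 := by decide +kernel
  have keyt : ∀ k ∈ dvs [128, 9, 5, 7, 23], k < 1288 → k % 11 = 1 → k % 2 = 1288 % 2 →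
      11 * 2 * k ∣ 10200960 → k % 3 ≠ 1 := by decide +kernel
  have hfy := keyy _ (mem_ksB _ (Nat.dvd_of_mul_dvd_mul_left (by norm_num : 0 < 11)
    (dvd_trans (Dvd.intro_left 3 (by ring)) hy4 : 11 * SylowFixed.fixCard 11 y ∣ 11 * 927360)))
    hy1 hy2 hy3 hy4
  refine keyt _ (mem_ksB _ (Nat.dvd_of_mul_dvd_mul_left (by norm_num : 0 < 11)
    (dvd_trans (Dvd.intro_left 2 (by ring)) ht4 : 11 * SylowFixed.fixCard 11 t ∣ 11 * 927360)))
    ht1 ht2 ht3 ht4 ?_
  -- `y` fixes only `P` among the Sylow subgroups fixed by `t`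
  haveI hsub : Subsingleton {Q : Sylow 11 G // y • Q = Q} := (Nat.card_eq_one_iff_unique.1 hfy).1
  let act : MulAction (zpowers y) {Q : Sylow 11 G // t • Q = Q} :=
    { smul := fun v Q => ⟨(v : G) • Q.1, by
        obtain ⟨i, hi⟩ := mem_zpowers_iff.1 v.2
        rw [← mul_smul, show t * (v : G) = (v : G) * t by rw [← hi]; exact (hty.zpow_right i).eq,
          mul_smul, Q.2]⟩
      one_smul := fun Q => Subtype.ext (one_smul G Q.1)
      mul_smul := fun a b Q => Subtype.ext (mul_smul (a : G) (b : G) Q.1) }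
  letI := act
  have hpg : IsPGroup 3 (zpowers y) := IsPGroup.of_card (n := 1) (by rw [Nat.card_zpowers, hy, pow_one])
  have h := hpg.card_modEq_card_fixedPoints {Q : Sylow 11 G // t • Q = Q}
  have h1 : Nat.card (MulAction.fixedPoints (zpowers y) {Q : Sylow 11 G // t • Q = Q}) = 1 := by
    refine Nat.card_eq_one_iff_unique.2 ⟨⟨fun a b => ?_⟩, ?_⟩
    · have ha : y • a.1.1 = a.1.1 := congrArg Subtype.val (a.2 ⟨y, mem_zpowers y⟩)
      have hb : y • b.1.1 = b.1.1 := congrArg Subtype.val (b.2 ⟨y, mem_zpowers y⟩)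
      have hab : (⟨a.1.1, ha⟩ : {Q : Sylow 11 G // y • Q = Q}) = ⟨b.1.1, hb⟩ := Subsingleton.elim _ _
      exact Subtype.ext (Subtype.ext (Subtype.mk.inj hab))
    · have hPfix : ∀ w : G, w ∈ D → w • P = P := fun w hw =>
        Sylow.smul_eq_iff_mem_normalizer.2 (centralizer_le_normalizer _ hw)
      exact ⟨⟨⟨P, hPfix t t'.2⟩, fun v => Subtype.ext (hPfix (v : G) (zpowers_le.2 y'.2 v.2))⟩⟩
  rw [h1] at h
  exact h

/-- No automizer of order ten. -/
theorem not_ten (hG : SG G) (P : Sylow 11 G) (hP : Nat.card P = 11)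
    (hrel : (centralizer ((P : Subgroup G) : Set G)).relIndex (normalizer ((P : Subgroup G) : Set G)) = 10)
    {t : G} (ht : t * t = 1) (ht1 : t ≠ 1) (htC : t ∈ centralizer ((P : Subgroup G) : Set G))
    (h5 : 5 ∣ Nat.card (centralizer ({t} : Set G))) : False := by
  haveI := hG.simple
  obtain ⟨D⟩ := exists_blk (P := P) (hP := hP) (e := 10) (by norm_num) (by norm_num) hrel
  obtain ⟨θ, hθ⟩ := D.Y_ne
  have key : ∀ d ∈ divs, 22 < d → d < 3194 → okA d = true → (d % 11 = 1 ∨ d % 11 = 10) →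
      d % 23 = 0 ∨ d = 45 ∨ d = 252 := by decide +kernel
  have hmem : ∀ χ ∈ D.X ∪ D.Y, deg χ % 11 = 1 ∨ deg χ % 11 = 10 := fun χ hχ => by
    rcases Finset.mem_union.1 hχ with h | h
    · exact D.mod_X h
    · have h1 := D.deg_f
      rw [D.deg_Y χ h]
      rcases D.ε_sq with k | k <;> rw [k] at h1 <;> norm_num at h1 <;> omega
  have h45 : ∃ χ ∈ D.X ∪ D.Y, deg χ = 45 := by
    by_contra hne
    push Not at hne
    have hcases : ∀ χ ∈ D.X ∪ D.Y, deg χ % 23 = 0 ∨ deg χ = 252 := fun χ hχ => by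
      rcases key _ (mem_divs (hG.deg_dvd χ)) (D.two_p_lt hG (by norm_num) ht ht1 htC hχ) (hG.deg_lt χ)
        (okA_deg hG χ) (hmem χ hχ) with h | h | h
      · exact Or.inl h
      · exact absurd h (hne χ hχ)
      · exact Or.inr h
    let c : IrrCharacter G → ℤ := fun χ => if deg χ = 252 then 1 else 0
    have hX : (23 : ℤ) ∣ ∑ χ ∈ D.X, (D.s χ * (deg χ : ℤ) - c χ) := Finset.dvd_sum fun χ hχ => by
      have hs := D.deg_X χ hχ
      rcases hcases χ (Finset.mem_union_left _ hχ) with h | h <;> rcases D.s_sq χ hχ with k | k <;>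
        simp only [k, c] at hs ⊢ <;> split_ifs with h' <;> (try rw [h'] at hs ⊢) <;>
        (try norm_num at hs ⊢) <;> omega
    rw [Finset.sum_sub_distrib] at hX
    have hc : 0 ≤ ∑ χ ∈ D.X, c χ ∧ ∑ χ ∈ D.X, c χ ≤ 9 := by
      constructor
      · exact Finset.sum_nonneg fun χ _ => by simp only [c]; split_ifs <;> norm_num
      · have := Finset.sum_le_card_nsmul D.X c 1 fun χ _ => by simp only [c]; split_ifs <;> norm_num
        rw [D.card_X] at this
        simpa using this
    have hrel0 := D.deg_rel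
    have hf := D.deg_f
    rcases hcases θ (Finset.mem_union_right _ hθ) with h | h <;> rw [D.deg_Y θ hθ] at h <;>
      rcases D.ε_sq with k | k <;> rw [k] at hrel0 hf <;> (try rw [h] at hrel0 hf) <;>
      norm_num at hrel0 hf <;> omega
  obtain ⟨χ, hχ, hd⟩ := h45
  have h44 := D.cong4p hG (by norm_num) ht ht1 htC hχ
  have hlt := CfsgLib.MTwelveUnique.sq_lt_deg_sq hG.not_comm χ (D.ne_one hχ) ht1 (intVal_spec χ ht)
  have hmod := CfsgLib.MTwelveUnique.deg_dvd_index_mul χ (intVal_spec χ ht) (rfl : Nat.card (centralizer ({t} : Set G)) = _)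
  rw [hd] at h44 hlt hmod
  rw [hG.card] at hmod
  obtain ⟨c, hc⟩ := card_subgroup_dvd_card (centralizer ({t} : Set G))
  obtain ⟨a, ha⟩ := h5
  rw [hG.card, ha] at hc
  rw [ha, hc, Nat.mul_div_cancel_left _ (Nat.pos_of_ne_zero fun h => by rw [h] at hc; simp at hc)] at hmod
  set v := intVal χ ht
  have hv : v = 1 ∨ v = -43 := by
    have h1 : -45 < v ∧ v < 45 := by
      push_cast at hlt
      constructor <;> by_contra h <;> push Not at h <;> nlinarith
    push_cast at h44
    omega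
  have h9 : 45 ∣ c := by
    have hco : Nat.Coprime 45 v.natAbs := by rcases hv with h | h <;> rw [h] <;> decide
    have h := Int.natAbs_dvd_natAbs.2 (Int.dvd_of_emod_eq_zero hmod)
    rw [Int.natAbs_mul, Int.natAbs_natCast] at h
    exact hco.dvd_of_dvd_mul_right h
  obtain ⟨b, hb⟩ := h9
  rw [hb, show 5 * a * (45 * b) = 225 * (a * b) by ring] at hc
  omega

theorem optsB_cases : ∀ w ∈ optsB, (927360 / w.1 / w.2) % 23 = 0 ∨
    (w.2 = 2 ∧ (927360 / w.1 / w.2) ∈ parC.us) ∨ w = (1035, 2) ∨ w = (7360, 2) ∨ w = (276, 10) ∨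
    (w.2 = 5 ∧ (927360 / w.1 / w.2) ∈ [672, 56, 12]) ∨ w = (1288, 5) ∨
    (w.2 = 10 ∧ (927360 / w.1 / w.2) ∈ [72, 28, 6]) ∨ w = (185472, 5) := by decide +kernel

set_option maxHeartbeats 800000 in
/-- The Sylow 11-data. -/
theorem eleven (hG : SG G) (x : G) (hx : orderOf x = 11) :
    Nat.card (centralizer ({x} : Set G)) = 11 ∧
      Nat.card (normalizer ((zpowers x : Subgroup G) : Set G)) = 55 := by
  haveI := hG.simple
  have hnG : Nat.card G = 11 * 927360 := by rw [hG.card]
  obtain ⟨P, hPx, hcx⟩ := exists_sylow_zpowers hnG (by norm_num) hx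
  have hP := Band6232.card_of_prime hnG (by norm_num) P
  obtain ⟨k, r, u, hmem, hk, hkru, hN, hC⟩ := exists_numbers hG.not_comm hG.card (p := 11) (m := 927360)
    (by norm_num) (by norm_num) (by norm_num) P _ mem_ksB optsB optsB_ok
  obtain ⟨hrel, hreg⟩ := relIndex_and_reg P hP hN hC
  have hk0 : 0 < k := hk ▸ Nat.card_pos
  have hr0 : 0 < r := Nat.pos_of_ne_zero fun h => by rw [h] at hkru; simp at hkru
  have hu := prod_eq hkru hk0 hr0
  have h23 : ¬ 23 ∣ 11 * u := not_dvd_of_self (by norm_num) (by norm_num) P hP hC (self_twentyThree hG)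
  have h23C : ∀ t : G, t * t = 1 → t ≠ 1 → ¬ 23 ∣ Nat.card (centralizer ({t} : Set G)) := fun t ht ht1 =>
    not_dvd_centralizer (by norm_num) (self_twentyThree hG) ht1 (by
      rw [orderOf_eq_prime (p := 2) (by rw [sq]; exact ht) ht1]; norm_num)
  rcases optsB_cases _ hmem with h | h | h | h | h | h | h | h | h
  · exact absurd (dvd_mul_of_dvd_right (Nat.dvd_of_mod_eq_zero (hu.symm ▸ h)) 11) h23
  · obtain ⟨rfl, hus⟩ : r = 2 ∧ u ∈ parC.us := ⟨h.1, hu ▸ h.2⟩
    have hu2 : 2 ∣ u := by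
      have key : ∀ v ∈ parC.us, 2 ∣ v := by decide
      exact key u hus
    obtain ⟨t, ht, ht1, -, htC, h22⟩ := exists_involution P hP (by norm_num) hC hu2
    obtain ⟨D⟩ := exists_blk (P := P) (hP := hP) (e := 2) le_rfl (by norm_num) hrel
    obtain ⟨L, -, hL, -⟩ := D.excl_of_dead hG parC rfl rfl (by norm_num) (by norm_num) (by decide)
      deadC (fun χ _ => okA_deg hG χ) (fun χ hχ => D.two_p_lt hG (by norm_num) ht ht1 htC hχ) ht ht1
      (fun χ hχ => D.cong4p hG (by norm_num) ht ht1 htC hχ)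
      (mem_cents (no := [23]) (hG.card ▸ card_subgroup_dvd_card _) (hG.cents_lt ht1) h22
        (by simpa using h23C t ht ht1))
      (hreg.symm ▸ hus) (fun h => by simp [parC] at h) (fun h => by simp [parC] at h)
    exact absurd hL Bool.false_ne_true
  · obtain ⟨rfl, rfl⟩ : k = 1035 ∧ r = 2 := Prod.mk.injEq .. ▸ h
    obtain rfl : u = 448 := hu.trans (by norm_num)
    refine (Band6232.false_of_no_local hG.not_comm hG.card (m := 927360) (by norm_num) (by norm_num) P hk
      (by norm_num) hN hC (by norm_num : Nat.Prime 7) (by norm_num) (by norm_num) (by norm_num)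
      fun j hj h1 h2 h3 => ?_).elim
    have key : ∀ k ∈ dvs [128, 9, 5, 7, 23], k < 1035 → k % 11 = 1 → k % 7 = 1035 % 7 →
        ¬ 11 * 7 * k ∣ 10200960 := by decide +kernel
    have hd := Nat.dvd_of_mod_eq_zero h3
    exact key j (mem_ksB j (Nat.dvd_of_mul_dvd_mul_left (by norm_num : 0 < 11)
      (dvd_trans (Dvd.intro_left 7 (by ring)) hd : 11 * j ∣ 11 * 927360))) hj h1 h2 hd
  · obtain ⟨rfl, rfl⟩ : k = 7360 ∧ r = 2 := Prod.mk.injEq .. ▸ h
    obtain rfl : u = 63 := hu.trans (by norm_num)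
    exact (not_sixtyThree hG P hk hN hC).elim
  · obtain ⟨rfl, rfl⟩ : k = 276 ∧ r = 10 := Prod.mk.injEq .. ▸ h
    obtain rfl : u = 336 := hu.trans (by norm_num)
    obtain ⟨b, hbN, hb, F, hFC, hFb, hF1, hF2⟩ := exists_fixed P (r := 5) (q := 7) (a := 1) (m := 528)
      (by norm_num) (by norm_num) (by rw [hN]; norm_num) (by rw [hC]; norm_num) (by rw [hC]; norm_num)
      (by norm_num)
    haveI : Fact (Nat.Prime 7) := ⟨by norm_num⟩
    have hF : Nat.card F = 7 := by
      rcases (Nat.dvd_prime (by norm_num : Nat.Prime 7)).1 (by rwa [pow_one] at hF1 : Nat.card F ∣ 7) with h | h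
      · rw [h] at hF2; norm_num at hF2
      · exact h
    obtain ⟨y', hy'⟩ := exists_prime_orderOf_dvd_card' (G := F) 7 (by rw [hF])
    have hyo : orderOf (y' : G) = 7 := by rw [Subgroup.orderOf_coe, hy']
    obtain ⟨j, hj1, hj2, hj3, hj4, hcard⟩ := local_card hG.not_comm hG.card (m := 927360) (by norm_num)
      (by norm_num) P hk hN hC (by norm_num : Nat.Prime 7) (by norm_num) (by norm_num) hyo (hFC y'.2)
    have key : ∀ k ∈ dvs [128, 9, 5, 7, 23], k < 276 → k % 11 = 1 → k % 7 = 276 % 7 →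
        11 * 7 * k ∣ 10200960 → k = 45 := by decide +kernel
    have hj := key j (mem_ksB j (Nat.dvd_of_mul_dvd_mul_left (by norm_num : 0 < 11)
      (dvd_trans (Dvd.intro_left 7 (by ring)) hj4 : 11 * j ∣ 11 * 927360))) hj1 hj2 hj3 hj4
    have h5 : 5 ∣ Nat.card (normalizer ((P : Subgroup G) : Set G) ⊓ centralizer ({(y' : G)} : Set G) :
        Subgroup G) :=
      hb ▸ Subgroup.orderOf_dvd_natCard _ ⟨hbN, mem_centralizer_singleton_iff.2 (hFb _ y'.2).eq⟩
    have h := (Nat.mul_dvd_mul_left j h5).trans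
      ((dvd_of_eq hcard.symm).trans (hG.card ▸ card_subgroup_dvd_card _))
    rw [hj] at h
    norm_num at h
  · obtain ⟨rfl, hus⟩ : r = 5 ∧ u ∈ [672, 56, 12] := ⟨h.1, hu ▸ h.2⟩
    obtain ⟨a, m, hm, hm2, ha⟩ : ∃ a m : ℕ, 11 * u = 2 ^ a * m ∧ ¬ 2 ∣ m ∧ 2 ^ a % 5 ≠ 1 := by
      simp only [List.mem_cons, List.not_mem_nil, or_false] at hus
      rcases hus with rfl | rfl | rfl
      exacts [⟨5, 231, by norm_num⟩, ⟨3, 77, by norm_num⟩, ⟨2, 33, by norm_num⟩]
    have hu5 : ¬ 5 ∣ 11 * u := by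
      have key : ∀ v ∈ [672, 56, 12], ¬ 5 ∣ 11 * v := by decide
      exact key u hus
    obtain ⟨t, ht, ht1, htC, h22, h5⟩ := exists_invol_five hG P dvd_rfl hu5 hN hC hm hm2 ha
    obtain ⟨D⟩ := exists_blk (P := P) (hP := hP) (e := 5) (by norm_num) (by norm_num) hrel
    obtain ⟨L, -, hL, -⟩ := D.excl_of_dead hG parD rfl rfl (by norm_num) (by norm_num) (by decide)
      deadD (fun χ _ => okA_deg hG χ) (fun χ hχ => D.two_p_lt hG (by norm_num) ht ht1 htC hχ) ht ht1
      (fun χ hχ => D.cong4p hG (by norm_num) ht ht1 htC hχ)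
      (List.mem_filter.2 ⟨mem_cents (no := [23]) (hG.card ▸ card_subgroup_dvd_card _) (hG.cents_lt ht1) h22
        (by simpa using h23C t ht ht1), decide_eq_true (Nat.mod_eq_zero_of_dvd h5)⟩)
      (hreg.symm ▸ hus) (fun h => by simp [parD] at h)
      (fun _ => invSet_eq_empty hrel (by norm_num) (by norm_num) t)
    exact absurd hL Bool.false_ne_true
  · obtain ⟨rfl, rfl⟩ : k = 1288 ∧ r = 5 := Prod.mk.injEq .. ▸ h
    obtain rfl : u = 144 := hu.trans (by norm_num)
    exact (not_oneFourFour hG P hk hN hC).elim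
  · obtain ⟨rfl, hus⟩ : r = 10 ∧ u ∈ [72, 28, 6] := ⟨h.1, hu ▸ h.2⟩
    obtain ⟨a, m, hm, hm2, ha⟩ : ∃ a m : ℕ, 11 * u = 2 ^ a * m ∧ ¬ 2 ∣ m ∧ 2 ^ a % 5 ≠ 1 := by
      simp only [List.mem_cons, List.not_mem_nil, or_false] at hus
      rcases hus with rfl | rfl | rfl
      exacts [⟨3, 99, by norm_num⟩, ⟨2, 77, by norm_num⟩, ⟨1, 33, by norm_num⟩]
    have hu5 : ¬ 5 ∣ 11 * u := by
      have key : ∀ v ∈ [72, 28, 6], ¬ 5 ∣ 11 * v := by decide
      exact key u hus
    obtain ⟨t, ht, ht1, htC, -, h5⟩ := exists_invol_five hG P (by norm_num) hu5 hN hC hm hm2 ha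
    exact (not_ten hG P hP hrel ht ht1 htC h5).elim
  · obtain ⟨rfl, rfl⟩ : k = 185472 ∧ r = 5 := Prod.mk.injEq .. ▸ h
    obtain rfl : u = 1 := hu.trans (by norm_num)
    exact ⟨hcx ▸ hC, hPx ▸ hN⟩

end CfsgLib.MTwentyThreeUnique.OrderLocal
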