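import Cfsg.Agent.Lib.MTwentyThreeUnique.OrderLocal.Seven
import Mathlib

/-!
A simple group of order 10200960 has the local data of the Mathieu group of degree 23.
-/

set_option autoImplicit false

noncomputable section

namespace CfsgLib.MTwentyThreeUnique.OrderLocal

open Cfsg

/-- The local data from simplicity and the order. -/
theorem local_of_order {G : Type*} [Group G] [Finite G] (hG : IsM23 G) : Local G := by
  classical
  haveI := Fintype.ofFinite G
  haveI : Fact (Nat.Prime 5) := ⟨by norm_num⟩
  haveI : Fact (Nat.Prime 7) := ⟨by norm_num⟩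
  haveI : Fact (Nat.Prime 11) := ⟨by norm_num⟩
  have h : SG G := ⟨hG.2, hG.1⟩
  exact ⟨hG.2, hG.1, twentyThree h, eleven h, seven h, five h⟩

end CfsgLib.MTwentyThreeUnique.OrderLocal
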