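import Cfsg.Agent.Lib.MTwentyThreeUnique.OrderLocal.Eleven
import Mathlib

/-!
The Sylow 5-subgroup: centraliser of order 15 and normaliser of order 60.
-/

set_option autoImplicit false
set_option linter.style.haveILetI false
set_option linter.unusedSectionVars false

noncomputable section

open scoped Classical

namespace CfsgLib.MTwentyThreeUnique.OrderLocal

open Subgroup CfsgLib.InvolChar CfsgLib.Blocks.PrimeSylow CfsgLib.SmallGroups CfsgLib.SmallSimple Cfsg
open CfsgLib.MTwentyTwoUnique (SC exists_sc sgn)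
open CfsgLib.MTwentyTwoUnique.FromOrder (reg invSet mem_invSet exists_sylow_zpowers relIndex_and_reg
  exists_involution sylow_le_centralizer dvs mem_dvs)

variable {G : Type*} [Group G] [Fintype G]

theorem self_eleven (hG : SG G) : ∀ x : G, orderOf x = 11 →
    Nat.card (centralizer ({x} : Set G)) = 11 := by
  haveI : Fact (Nat.Prime 11) := ⟨by norm_num⟩
  exact fun x hx => (eleven hG x hx).1

/-- The blocks at 23 and at 11. -/
theorem exists_sc_pair (hG : SG G) : Nonempty (SC G 23 11) ∧ Nonempty (SC G 11 5) := by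
  haveI := hG.simple
  refine ⟨?_, ?_⟩
  · haveI : Fact (Nat.Prime 23) := ⟨by norm_num⟩
    have hnG : Nat.card G = 23 * 443520 := by rw [hG.card]
    obtain ⟨x, hx⟩ := exists_prime_orderOf_dvd_card' (G := G) 23 (by rw [hG.card]; norm_num)
    obtain ⟨P, hPx, hcx⟩ := exists_sylow_zpowers hnG (by norm_num) hx
    have hP := Band6232.card_of_prime hnG (by norm_num) P
    obtain ⟨hC, hN⟩ := twentyThree hG x hx
    exact exists_sc P hP (hcx ▸ hC) 11
      (relIndex_and_reg P hP (r := 11) (u := 1) (by rw [hPx, hN]) (by rw [← hcx, hC])).1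
  · haveI : Fact (Nat.Prime 11) := ⟨by norm_num⟩
    have hnG : Nat.card G = 11 * 927360 := by rw [hG.card]
    obtain ⟨x, hx⟩ := exists_prime_orderOf_dvd_card' (G := G) 11 (by rw [hG.card]; norm_num)
    obtain ⟨P, hPx, hcx⟩ := exists_sylow_zpowers hnG (by norm_num) hx
    have hP := Band6232.card_of_prime hnG (by norm_num) P
    obtain ⟨hC, hN⟩ := eleven hG x hx
    exact exists_sc P hP (hcx ▸ hC) 5
      (relIndex_and_reg P hP (r := 5) (u := 1) (by rw [hPx, hN]) (by rw [← hcx, hC])).1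

/-- The residues at 23 and 11 of the degrees. -/
theorem okAB_deg (hG : SG G) (χ : IrrCharacter G) : okAB (deg χ) = true := by
  obtain ⟨B⟩ := (exists_sc_pair hG).2
  rw [okAB, okA_deg hG χ, Bool.true_and, decide_eq_true_eq]
  exact res_of_sc B (by norm_num) (by norm_num) (by norm_num) χ

/-- The candidates beside a degree 126. -/
def degs126 : List ℕ :=
  degsAll.filter fun d => decide ((d % 11 = 1 ∨ d % 11 = 10) ∧ d % 23 ∈ [0, 1, 22])

theorem no_tuple_126 : (runs degs126 4 10200959).all (fun L => decide (total 11 L ≠ 125)) = true := by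
  decide +kernel

/-- No degree 126. -/
theorem deg_ne_126 (hG : SG G) (χ₀ : IrrCharacter G) : deg χ₀ ≠ 126 := by
  intro h0
  haveI := hG.simple
  haveI : Fact (Nat.Prime 11) := ⟨by norm_num⟩
  obtain ⟨⟨A⟩, ⟨B⟩⟩ := exists_sc_pair hG
  have hBY : χ₀ ∈ B.Y := by
    rcases Finset.mem_union.1 (B.mem_of_not_dvd (χ := χ₀) (by rw [h0]; norm_num)) with h | h
    · have h1 := B.deg_X _ h
      rcases B.s_sq _ h with k | k <;> rw [h0, k] at h1 <;> norm_num at h1
    · exact h
  have hAY : χ₀ ∈ A.Y := by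
    rcases Finset.mem_union.1 (A.mem_of_not_dvd (χ := χ₀) (by rw [h0]; norm_num)) with h | h
    · have h1 := A.deg_X _ h
      rcases A.s_sq _ h with k | k <;> rw [h0, k] at h1 <;> norm_num at h1
    · exact h
  have hfA : A.f = 126 := (A.deg_Y _ hAY).symm.trans h0
  have hfB : B.f = 126 := (B.deg_Y _ hBY).symm.trans h0
  have hε : B.ε = 1 := by
    have h := B.deg_f
    rw [hfB] at h
    rcases B.ε_sq with k | k
    · exact k
    · rw [k] at h; norm_num at h
  obtain ⟨x, hx⟩ := exists_prime_orderOf_dvd_card' (G := G) 11 (by rw [hG.card]; norm_num)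
  obtain ⟨h1X, hs1⟩ := B.one_X (by norm_num) (by norm_num) hx
  set X' := B.X.erase CfsgLib.Char.irrOne
  have hrel := B.deg_rel hBY (by norm_num)
  rw [hε, hfB, ← Finset.add_sum_erase _ _ h1X, hs1, deg_irrOne] at hrel
  have hX' : ∀ χ ∈ X', deg χ ∈ degs126 ∧ sgn 11 (deg χ) = B.s χ := fun χ hχ => by
    obtain ⟨hne, hX⟩ := Finset.mem_erase.1 hχ
    have hs := B.deg_X χ hX
    have hs' := B.s_sq χ hX
    refine ⟨List.mem_filter.2 ⟨List.mem_filter.2 ⟨mem_divs (hG.deg_dvd χ),
      decide_eq_true ⟨hG.two_le_deg hne, hG.deg_lt χ⟩⟩, decide_eq_true ⟨?_, ?_⟩⟩,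
      CfsgLib.MTwentyTwoUnique.sgn_eq (by norm_num) hs' hs⟩
    · rcases hs' with k | k <;> rw [k] at hs <;> omega
    · have hr := res_of_sc A (by norm_num) (by norm_num) (by norm_num) χ
      simp only [List.mem_cons, List.not_mem_nil, or_false] at hr ⊢
      rcases hr with h | h | h | h | h
      · exact Or.inl h
      · exact Or.inr (Or.inl h)
      · exact Or.inr (Or.inr h)
      all_goals
        exfalso
        haveI : Fact (Nat.Prime 23) := ⟨by norm_num⟩
        rcases Finset.mem_union.1 (A.mem_of_not_dvd (χ := χ) (by omega)) with h' | h'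
        · have h1 := A.deg_X _ h'
          rcases A.s_sq _ h' with k | k <;> rw [k] at h1 <;> omega
        · rw [A.deg_Y _ h', hfA] at hs
          rcases hs' with k | k <;> rw [k] at hs <;> norm_num at hs
  obtain ⟨L, hL, hL', -⟩ := exists_mem_runs degs126 (X'.val.map deg) 4 10200959
    (by decide +kernel) (fun d hd => by
      obtain ⟨χ, hχ, rfl⟩ := Multiset.mem_map.1 hd
      exact (hX' χ (Finset.mem_def.2 hχ)).1)
    (by rw [Multiset.card_map]; show X'.card = 4; rw [Finset.card_erase_of_mem h1X, B.card_X])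
    (by
      rw [Multiset.map_map]
      show ∑ χ ∈ X', deg χ * deg χ ≤ _
      have h := hG.sum_sq_le (insert CfsgLib.Char.irrOne X')
      rw [Finset.sum_insert (Finset.notMem_erase _ _), deg_irrOne] at h
      simp only [X'] at h ⊢
      omega)
  have hT := List.all_eq_true.1 no_tuple_126 L hL
  refine of_decide_eq_true hT ?_
  rw [(expand_sums 11 L).1, hL', Multiset.map_map]
  show ∑ χ ∈ X', sgn 11 (deg χ) * (deg χ : ℤ) = _
  rw [Finset.sum_congr rfl fun χ hχ => by rw [(hX' χ hχ).2]]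
  push_cast at hrel
  linarith

/-- The candidates for the Sylow number at five. -/
def optsC : List (ℕ × ℕ) :=
  ((dvs [128, 9, 7, 11, 23]).filter fun k => decide (k % 5 = 1 ∧ k ≠ 1)).flatMap fun k => [(k, 2), (k, 4)]

theorem optsC_ok : numsOK 5 2040192 (dvs [128, 9, 7, 11, 23]) optsC = true := by decide +kernel

theorem mem_ksC (k : ℕ) (h : k ∣ 2040192) : k ∈ dvs [128, 9, 7, 11, 23] :=
  mem_dvs [128, 9, 7, 11, 23] (by simp) (by simpa using h)

theorem optsC_cases : ∀ w ∈ optsC, 2040192 % (w.1 * w.2) ≠ 0 ∨ (2040192 / w.1 / w.2) % 23 = 0 ∨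
    (2040192 / w.1 / w.2) % 11 = 0 ∨ (w.2 = 2 ∧ (2040192 / w.1 / w.2) ∈ parG.us) ∨
    (w.2 = 4 ∧ (2040192 / w.1 / w.2) ∈ parF.us) ∨ w = (8096, 4) ∨ w = (48576, 2) ∨ w = (1020096, 2) ∨
    w = (170016, 4) := by decide +kernel

variable [Fact (Nat.Prime 5)]

/-- No regular part divisible by seven for the two large Sylow numbers. -/
theorem not_seven_five (hG : SG G) (P : Sylow 5 G) {k r u : ℕ} (hk : Nat.card (Sylow 5 G) = k)
    (hN : Nat.card (normalizer ((P : Subgroup G) : Set G)) = 5 * (r * u))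
    (hC : Nat.card (centralizer ((P : Subgroup G) : Set G)) = 5 * u) (h7 : 7 ∣ u) (hr : Nat.Coprime 7 r)
    (hk' : k = 8096 ∨ k = 48576) : False := by
  haveI := hG.simple
  haveI : Fact (Nat.Prime 7) := ⟨by norm_num⟩
  obtain ⟨y, hyC, hy⟩ := Band6232.exists_of_dvd_centralizer (P := P) (by norm_num : Nat.Prime 7) hC
    (dvd_mul_of_dvd_right h7 5)
  obtain ⟨j, hj1, hj2, hj3, hj4, hcard⟩ := local_card hG.not_comm hG.card (m := 2040192) (by norm_num)
    (by norm_num) P hk hN hC (by norm_num : Nat.Prime 7) (by norm_num) hr hy hyC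
  have key : ∀ i ∈ dvs [128, 9, 7, 11, 23], ∀ n ∈ [8096, 48576], i < n → i % 5 = 1 → i % 7 = n % 7 →
      5 * 7 * i ∣ 10200960 → i % 11 = 0 ∨ i % 23 = 0 := by decide +kernel
  have hy1 : y ≠ 1 := fun h => by rw [h, orderOf_one] at hy; norm_num at hy
  rcases key j (mem_ksC j (Nat.dvd_of_mul_dvd_mul_left (by norm_num : 0 < 5)
    (dvd_trans (Dvd.intro_left 7 (by ring)) hj4 : 5 * j ∣ 5 * 2040192))) k (by simpa using hk')
    hj1 hj2 hj3 hj4 with h | h
  · exact not_dvd_centralizer (q := 11) (by norm_num) (self_eleven hG) hy1 (by rw [hy]; norm_num)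
      (hcard ▸ dvd_mul_of_dvd_left (Nat.dvd_of_mod_eq_zero h) _)
  · exact not_dvd_centralizer (q := 23) (by norm_num) (self_twentyThree hG) hy1 (by rw [hy]; norm_num)
      (hcard ▸ dvd_mul_of_dvd_left (Nat.dvd_of_mod_eq_zero h) _)

/-- No self-centralising Sylow subgroup with automizer of order two. -/
theorem not_self_five (hG : SG G) (P : Sylow 5 G) (hP : Nat.card P = 5)
    (hN : Nat.card (normalizer ((P : Subgroup G) : Set G)) = 5 * (2 * 1))
    (hC : Nat.card (centralizer ((P : Subgroup G) : Set G)) = 5 * 1) : False := by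
  haveI := hG.simple
  haveI : Fact (Nat.Prime 2) := ⟨Nat.prime_two⟩
  obtain ⟨hrel, hreg⟩ := relIndex_and_reg P hP hN hC
  obtain ⟨t', ht'⟩ := exists_prime_orderOf_dvd_card' (G := normalizer ((P : Subgroup G) : Set G)) 2
    (by rw [hN]; norm_num)
  have hto : orderOf (t' : G) = 2 := by rw [Subgroup.orderOf_coe, ht']
  have htN := t'.2
  generalize (t' : G) = t at hto htN
  have ht : t * t = 1 := by
    have h2 := pow_orderOf_eq_one t
    rwa [hto, sq] at h2
  have ht1 : t ≠ 1 := fun h => by rw [h, orderOf_one] at hto; norm_num at hto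
  have htC : t ∉ centralizer ((P : Subgroup G) : Set G) := fun h => by
    have := Subgroup.orderOf_dvd_natCard _ h
    rw [hto, hC] at this
    norm_num at this
  have hinv : (invSet (pw P hP 1) t).Nonempty := by
    refine ⟨t, mem_invSet.2 ⟨IsConj.refl t, ?_⟩⟩
    have hpow : ∀ i : ZMod 5, t * pw P hP i * t⁻¹ = (t * pw P hP 1 * t⁻¹) ^ i.val := fun i => by
      rw [conj_pow, pw_pow, ZMod.natCast_zmod_val, mul_one]
    obtain ⟨i, hi⟩ := pw_surjOn P hP ((htN (pw P hP 1)).1 (pw_mem P hP 1))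
    rw [← hi]
    have hii : pw P hP (1 : ZMod 5) = pw P hP (i * i) := by
      calc pw P hP (1 : ZMod 5) = t * (t * pw P hP 1 * t⁻¹) * t⁻¹ := by
            rw [inv_eq_of_mul_eq_one_left ht]
            rw [show t * (t * pw P hP 1 * t) * t = (t * t) * pw P hP 1 * (t * t) by group, ht, one_mul,
              mul_one]
        _ = pw P hP i ^ i.val := by rw [← hi, hpow, ← hi]
        _ = pw P hP (i * i) := by rw [pw_pow, ZMod.natCast_zmod_val]
    rcases mul_self_eq_one_iff.1 (pw_injective P hP hii).symm with h | h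
    · refine absurd (mem_centralizer_iff.2 fun z hz => ?_) htC
      obtain ⟨j, rfl⟩ := pw_surjOn P hP hz
      have hj := hpow j
      rw [← hi, h, pw_pow, ZMod.natCast_zmod_val, mul_one] at hj
      exact (mul_inv_eq_iff_eq_mul.1 hj).symm
    · rw [h, eq_inv_iff_mul_eq_one, ← pw_add, neg_add_cancel, pw_zero]
  obtain ⟨D⟩ := exists_blk (P := P) (hP := hP) (e := 2) le_rfl (by norm_num) hrel
  obtain ⟨L, -, hL, -⟩ := D.excl_of_dead hG parH rfl rfl (by norm_num) (by norm_num) (by decide)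
    deadH (fun χ _ => okAB_deg hG χ) (fun χ hχ => hG.two_le_deg (D.ne_one hχ)) ht ht1
    (fun χ _ => CfsgLib.SmallGroups.PrimeRational.four_dvd_deg_sub hG.linear_trivial χ ht)
    (mem_cents (p := 1) (no := [23, 11]) (hG.card ▸ card_subgroup_dvd_card _) (hG.cents_lt ht1)
      (by rw [mul_one, ← hto]; exact Subgroup.orderOf_dvd_natCard _ (mem_centralizer_singleton_iff.2 rfl))
      (by
        simp only [List.mem_cons, List.not_mem_nil, or_false, forall_eq_or_imp, forall_eq]
        exact ⟨not_dvd_centralizer (by norm_num) (self_twentyThree hG) ht1 (by rw [hto]; norm_num),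
          not_dvd_centralizer (by norm_num) (self_eleven hG) ht1 (by rw [hto]; norm_num)⟩))
    (by rw [hreg]; decide) (fun _ => hinv) (fun h => by simp [parH] at h)
  exact Bool.false_ne_true hL

set_option maxHeartbeats 800000 in
/-- The Sylow 5-data. -/
theorem five (hG : SG G) (x : G) (hx : orderOf x = 5) :
    Nat.card (centralizer ({x} : Set G)) = 15 ∧
      Nat.card (normalizer ((zpowers x : Subgroup G) : Set G)) = 60 := by
  haveI := hG.simple
  have hnG : Nat.card G = 5 * 2040192 := by rw [hG.card]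
  obtain ⟨P, hPx, hcx⟩ := exists_sylow_zpowers hnG (by norm_num) hx
  have hP := Band6232.card_of_prime hnG (by norm_num) P
  obtain ⟨k, r, u, hmem, hk, hkru, hN, hC⟩ := exists_numbers hG.not_comm hG.card (p := 5) (m := 2040192)
    (by norm_num) (by norm_num) (by norm_num) P _ mem_ksC optsC optsC_ok
  obtain ⟨hrel, hreg⟩ := relIndex_and_reg P hP hN hC
  have hk0 : 0 < k := hk ▸ Nat.card_pos
  have hr0 : 0 < r := Nat.pos_of_ne_zero fun h => by rw [h] at hkru; simp at hkru
  have hu := prod_eq hkru hk0 hr0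
  have h23 : ¬ 23 ∣ 5 * u := not_dvd_of_self (by norm_num) (by norm_num) P hP hC (self_twentyThree hG)
  have h11 : ¬ 11 ∣ 5 * u := not_dvd_of_self (by norm_num) (by norm_num) P hP hC (self_eleven hG)
  have hno : ∀ t : G, t * t = 1 → t ≠ 1 → ∀ q ∈ [23, 11], ¬ q ∣ Nat.card (centralizer ({t} : Set G)) := by
    intro t ht ht1
    have hto := orderOf_eq_prime (p := 2) (by rw [sq]; exact ht) ht1
    simp only [List.mem_cons, List.not_mem_nil, or_false, forall_eq_or_imp, forall_eq]
    exact ⟨not_dvd_centralizer (by norm_num) (self_twentyThree hG) ht1 (by rw [hto]; norm_num),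
      not_dvd_centralizer (by norm_num) (self_eleven hG) ht1 (by rw [hto]; norm_num)⟩
  rcases optsC_cases _ hmem with h | h | h | h | h | h | h | h | h
  · exact absurd (Nat.mod_eq_zero_of_dvd ⟨u, by rw [← hkru, mul_assoc]⟩) h
  · exact absurd (dvd_mul_of_dvd_right (Nat.dvd_of_mod_eq_zero (hu.symm ▸ h)) 5) h23
  · exact absurd (dvd_mul_of_dvd_right (Nat.dvd_of_mod_eq_zero (hu.symm ▸ h)) 5) h11
  · obtain ⟨rfl, hus⟩ : r = 2 ∧ u ∈ parG.us := ⟨h.1, hu ▸ h.2⟩
    have hu2 : 2 ∣ u := by
      have key : ∀ v ∈ parG.us, 2 ∣ v := by decide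
      exact key u hus
    obtain ⟨t, ht, ht1, -, htC, h10⟩ := exists_involution P hP (by norm_num) hC hu2
    obtain ⟨D⟩ := exists_blk (P := P) (hP := hP) (e := 2) le_rfl (by norm_num) hrel
    obtain ⟨L, -, hL, -⟩ := D.excl_of_dead hG parG rfl rfl (by norm_num) (by norm_num) (by decide)
      deadG (fun χ _ => okAB_deg hG χ) (fun χ hχ => D.two_p_lt hG (by norm_num) ht ht1 htC hχ) ht ht1
      (fun χ hχ => D.cong4p hG (by norm_num) ht ht1 htC hχ)
      (mem_cents (no := [23, 11]) (hG.card ▸ card_subgroup_dvd_card _) (hG.cents_lt ht1) h10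
        (hno t ht ht1))
      (hreg.symm ▸ hus) (fun h => by simp [parG] at h) (fun h => by simp [parG] at h)
    exact absurd hL Bool.false_ne_true
  · obtain ⟨rfl, hus⟩ : r = 4 ∧ u ∈ parF.us := ⟨h.1, hu ▸ h.2⟩
    have hu2 : 2 ∣ u := by
      have key : ∀ v ∈ parF.us, 2 ∣ v := by decide
      exact key u hus
    obtain ⟨t, ht, ht1, -, htC, h10⟩ := exists_involution P hP (by norm_num) hC hu2
    obtain ⟨D⟩ := exists_blk (P := P) (hP := hP) (e := 4) (by norm_num) (by norm_num) hrel
    obtain ⟨L, hLt, hL, hLD, -⟩ := D.excl_of_dead hG parF rfl rfl (by norm_num) (by norm_num) (by decide)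
      deadF (fun χ _ => okAB_deg hG χ) (fun χ hχ => D.two_p_lt hG (by norm_num) ht ht1 htC hχ) ht ht1
      (fun χ hχ => D.cong4p hG (by norm_num) ht ht1 htC hχ)
      (mem_cents (no := [23, 11]) (hG.card ▸ card_subgroup_dvd_card _) (hG.cents_lt ht1) h10
        (hno t ht ht1))
      (hreg.symm ▸ hus) (fun h => by simp [parF] at h) (fun h => by simp [parF] at h)
    obtain ⟨w, hw, hw'⟩ := List.any_eq_true.1 hL
    have hwL : ∀ {L : List (ℕ × ℕ)} {w : ℕ × ℕ}, w ∈ L → (∀ v ∈ L, v.2 ≠ 0) → w.1 ∈ expand L := by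
      intro L
      induction L with
      | nil => simp
      | cons a L ih =>
        intro w hw h0
        rcases List.mem_cons.1 hw with rfl | hw
        · exact Multiset.mem_add.2 (Or.inl (Multiset.mem_replicate.2 ⟨h0 _ List.mem_cons_self, rfl⟩))
        · exact Multiset.mem_add.2 (Or.inr (ih hw fun v hv => h0 v (List.mem_cons_of_mem _ hv)))
    have h0 : ∀ v ∈ L, v.2 ≠ 0 := by
      have key : ∀ L ∈ parF.tuples, ∀ v ∈ L, v.2 ≠ 0 := by decide +kernel
      exact key L hLt
    have hmem' := hwL hw h0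
    rw [hLD, beq_iff_eq.1 hw'] at hmem'
    obtain ⟨χ, -, hχ⟩ := Multiset.mem_map.1 hmem'
    exact absurd hχ (deg_ne_126 hG χ)
  · obtain ⟨rfl, rfl⟩ : k = 8096 ∧ r = 4 := Prod.mk.injEq .. ▸ h
    obtain rfl : u = 63 := hu.trans (by norm_num)
    exact (not_seven_five hG P hk hN hC (by norm_num) (by norm_num) (Or.inl rfl)).elim
  · obtain ⟨rfl, rfl⟩ : k = 48576 ∧ r = 2 := Prod.mk.injEq .. ▸ h
    obtain rfl : u = 21 := hu.trans (by norm_num)
    exact (not_seven_five hG P hk hN hC (by norm_num) (by norm_num) (Or.inr rfl)).elim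
  · obtain ⟨rfl, rfl⟩ : k = 1020096 ∧ r = 2 := Prod.mk.injEq .. ▸ h
    obtain rfl : u = 1 := hu.trans (by norm_num)
    exact (not_self_five hG P hP hN hC).elim
  · obtain ⟨rfl, rfl⟩ : k = 170016 ∧ r = 4 := Prod.mk.injEq .. ▸ h
    obtain rfl : u = 3 := hu.trans (by norm_num)
    exact ⟨hcx ▸ hC, hPx ▸ hN⟩

end CfsgLib.MTwentyThreeUnique.OrderLocal
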