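import Cfsg.Agent.Lib.MTwelveUnique.Common
import Cfsg.Agent.Lib.SmallGroups.Basic
import Cfsg.Agent.Lib.SmallGroups.MElevenDegrees.Block
import Cfsg.Agent.Lib.MathieuBlocks.Values
import Mathlib

/-!
A simple group of order 10200960: the basic facts on its characters.
-/

set_option autoImplicit false

noncomputable section

open scoped Classical

namespace CfsgLib.MTwentyThreeUnique.OrderLocal

open Subgroup CfsgLib.InvolChar Cfsg

/-- Simplicity and the order. -/
structure SG (G : Type*) [Group G] : Prop where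
  card : Nat.card G = 10200960
  simple : IsSimpleGroup G

variable {G : Type*} [Group G] [Fintype G]

namespace SG

variable (hG : SG G)
include hG

omit [Fintype G] in
theorem not_comm : ¬ IsMulCommutative G := by
  haveI : Finite G := Nat.finite_of_card_ne_zero (by rw [hG.card]; norm_num)
  haveI := hG.simple
  exact CfsgLib.SmallGroups.not_isMulCommutative_of_not_prime (by rw [hG.card]; norm_num)

theorem linear_trivial (f : G →* ℂˣ) : f = 1 := by
  haveI := hG.simple
  ext g
  have hp : commutator G = ⊤ := CfsgLib.SmallGroups.commutator_eq_top_of_simple hG.not_comm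
  have hg : g ∈ f.ker := Abelianization.commutator_subset_ker f (by rw [hp]; exact mem_top g)
  exact congrArg Units.val (MonoidHom.mem_ker.mp hg)

theorem deg_dvd (χ : IrrCharacter G) : deg χ ∣ 10200960 :=
  hG.card ▸ CfsgLib.Char.degree_dvd_card χ.2 (deg_spec χ)

theorem sum_sq_deg : ∑ χ : IrrCharacter G, deg χ * deg χ = 10200960 := by
  have h := CfsgLib.Char.sum_degree_sq (G := G)
  simp only [deg_spec, hG.card, pow_two] at h
  exact_mod_cast h

theorem sum_sq_le (S : Finset (IrrCharacter G)) : ∑ χ ∈ S, deg χ * deg χ ≤ 10200960 :=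
  hG.sum_sq_deg ▸ Finset.sum_le_sum_of_subset (Finset.subset_univ S)

theorem deg_lt (χ : IrrCharacter G) : deg χ < 3194 := by
  have h := hG.sum_sq_le {χ}
  rw [Finset.sum_singleton] at h
  by_contra hc
  have : 3194 * 3194 ≤ deg χ * deg χ := Nat.mul_le_mul (by omega) (by omega)
  omega

theorem two_le_deg {χ : IrrCharacter G} (h : χ ≠ CfsgLib.Char.irrOne) : 2 ≤ deg χ := by
  haveI := hG.simple
  by_contra hc
  have h1 : deg χ = 1 := by have := deg_pos χ; omega
  exact h (CfsgLib.SmallGroups.MElevenDegrees.eq_irrOne_of_deg_one hG.not_comm χ h1)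

omit [Fintype G] in
theorem cents_lt [Finite G] {t : G} (ht : t ≠ 1) :
    Nat.card (centralizer ({t} : Set G)) < 10200960 := by
  haveI := hG.simple
  rw [← hG.card]
  refine lt_of_le_of_ne (Nat.le_of_dvd Nat.card_pos (card_subgroup_dvd_card _)) fun h => ?_
  have htop := eq_top_of_card_eq _ h
  have hc : t ∈ Subgroup.center G := Subgroup.mem_center_iff.mpr fun g =>
    mem_centralizer_singleton_iff.mp (htop ▸ mem_top g)
  rcases Subgroup.Normal.eq_bot_or_eq_top (H := Subgroup.center G) inferInstance with h | h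
  · exact ht (mem_bot.mp (h ▸ hc))
  · exact hG.not_comm ⟨⟨fun a b => (Subgroup.mem_center_iff.mp (h ▸ mem_top b)) a⟩⟩

end SG

/-- A character value summed over a subgroup is a non-negative multiple of its order. -/
theorem sum_subgroup_nonneg {H : Subgroup G} [Fintype H] (χ : IrrCharacter G) {z : ℤ}
    (hz : ∑ h : H, (χ : G → ℂ) h = (z : ℂ)) : 0 ≤ z := by
  obtain ⟨m, hm⟩ := CfsgLib.Char.classInner_char_nat
    (CfsgLib.Char.isCharacter_res H (CfsgLib.Char.isCharacter_of_isIrr χ.2))
    (CfsgLib.Char.isCharacter_of_isIrr (CfsgLib.Char.isIrrCharacter_one (G := H)))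
  rw [CfsgLib.Char.classInner_def] at hm
  simp only [map_one, mul_one] at hm
  rw [hz, inv_mul_eq_iff_eq_mul₀ (by exact_mod_cast Nat.card_pos.ne')] at hm
  have : z = ((Nat.card H * m : ℕ) : ℤ) := by
    have h2 : ((z : ℤ) : ℂ) = ((((Nat.card H * m : ℕ) : ℤ)) : ℂ) := by rw [hm]; push_cast; ring
    exact_mod_cast h2
  rw [this]
  exact Int.natCast_nonneg _

end CfsgLib.MTwentyThreeUnique.OrderLocal
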