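import Cfsg.Agent.Lib.MTwentyTwoUnique.FromOrder.Search
import Mathlib

/-!
The finite searches on a principal block of a group of order 10200960: degrees and values at an involution
centralising the Sylow subgroup.
-/

set_option autoImplicit false

namespace CfsgLib.MTwentyThreeUnique.OrderLocal

open CfsgLib.MTwentyTwoUnique (sgn tsgn)
open CfsgLib.MTwentyTwoUnique.FromOrder (dvs mem_dvs)

/-- The divisors of the group order. -/
def divs : List ℕ := dvs [128, 9, 5, 7, 11, 23]

/-- The possible degrees of non-trivial characters. -/
def degsAll : List ℕ := divs.filter fun d => decide (2 ≤ d ∧ d < 3194)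

/-- The residues allowed at 23. -/
def okA (d : ℕ) : Bool := decide (d % 23 ∈ [0, 1, 22, 11, 12])

/-- The residues allowed at 23 and 11. -/
def okAB (d : ℕ) : Bool := okA d && decide (d % 11 ∈ [0, 1, 10, 5, 6])

/-- The parameters of a search. -/
structure Par where
  /-- the prime -/
  p : ℕ
  /-- the order of the automizer -/
  e : ℕ
  /-- the strict lower bound on the degrees -/
  lo : ℕ
  /-- the modulus of the congruence between value and degree -/
  m : ℕ
  /-- the further condition on degrees -/
  ok : ℕ → Bool
  /-- the orders of the centraliser -/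
  Cs : List ℕ
  /-- the orders of the regular part -/
  us : List ℕ
  /-- some conjugate inverts the element -/
  pos : Bool
  /-- no conjugate inverts the element -/
  zero : Bool

/-- The non-exceptional candidates. -/
def Par.degX (P : Par) : List ℕ :=
  degsAll.filter fun d => decide (P.lo < d ∧ (d % P.p = 1 ∨ d % P.p = P.p - 1)) && P.ok d

/-- The signed total of a list with multiplicities. -/
def total (p : ℕ) : List (ℕ × ℕ) → ℤ
  | [] => 0
  | (d, k) :: L => sgn p d * ((k * d : ℕ) : ℤ) + total p L

/-- The sum of the squares of a list with multiplicities. -/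
def sqTotal : List (ℕ × ℕ) → ℕ
  | [] => 0
  | (d, k) :: L => k * (d * d) + sqTotal L

/-- The multisets of size `k` within the square budget, with multiplicities. -/
def runs : List ℕ → ℕ → ℕ → List (List (ℕ × ℕ))
  | [], k, _ => if k = 0 then [[]] else []
  | a :: X, k, B => (List.range (k + 1)).flatMap fun j =>
      if j * (a * a) ≤ B then
        if j = 0 then runs X k B else (runs X (k - j) (B - j * (a * a))).map ((a, j) :: ·)
      else []

/-- The exceptional degree of a tuple. -/
def Par.fOf (P : Par) (L : List (ℕ × ℕ)) : ℕ := (1 + total P.p L).natAbs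

/-- The exceptional sign of a tuple. -/
def Par.eOf (P : Par) (L : List (ℕ × ℕ)) : ℤ := tsgn (1 + total P.p L)

/-- The admissible tuples. -/
def Par.tuples (P : Par) : List (List (ℕ × ℕ)) :=
  (runs P.degX (P.e - 1) 10200959).filter fun L =>
    decide (P.lo < P.fOf L ∧ 2 ≤ P.fOf L ∧ 10200960 % P.fOf L = 0 ∧
      ((P.fOf L : ℤ) - P.eOf L * P.e) % (P.p : ℤ) = 0 ∧
      1 + sqTotal L + (P.p - 1) / P.e * (P.fOf L * P.fOf L) ≤ 10200960) && P.ok (P.fOf L)

/-- The conditions on a value. -/
def okVal (C d : ℕ) (v : ℤ) : Bool :=
  decide (v * v < (d : ℤ) * d ∧ v * v ≤ (C : ℤ) ∧ (((10200960 / C : ℕ) : ℤ) * v) % (d : ℤ) = 0)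

/-- The candidate values. -/
def vals (m C d : ℕ) : List ℤ :=
  ((List.range (2 * d / m + 1)).map fun k : ℕ => (d : ℤ) - (m : ℤ) * ((k : ℤ) + 1)).filter (okVal C d)

/-- A value that excludes inverting conjugates. -/
def badVal (p d : ℕ) (v : ℤ) : Bool :=
  decide ((d : ℤ) + ((p : ℤ) - 1) * sgn p d + (p : ℤ) * v < 0)

/-- All ways to distribute `k` equal degrees over the values. -/
def foldRun (p C d : ℕ) (cont : ℤ → ℤ → ℤ → Bool → Bool) : List ℤ → ℕ → ℤ → ℤ → ℤ → Bool → Bool
  | [], k, R, Q, S, b => decide (k ≠ 0) || cont R Q S b
  | v :: vs, k, R, Q, S, b => (List.range (k + 1)).all fun j =>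
      decide ((C : ℤ) < Q + (j : ℤ) * (v * v)) ||
        foldRun p C d cont vs (k - j) (R + sgn p d * ((j : ℤ) * v)) (Q + (j : ℤ) * (v * v))
          (S + sgn p d * ((10200960 / d : ℕ) : ℤ) * ((j : ℤ) * (v * v)))
          (b || decide (j ≠ 0) && badVal p d v)

/-- All values of a tuple. -/
def fold (p m C : ℕ) (chk : ℤ → ℤ → ℤ → Bool → Bool) : List (ℕ × ℕ) → ℤ → ℤ → ℤ → Bool → Bool
  | [], R, Q, S, b => chk R Q S b
  | (d, k) :: L, R, Q, S, b => foldRun p C d (fold p m C chk L) (vals m C d) k R Q S b

/-- The count has no admissible solution. -/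
def Par.noCount (P : Par) (u C : ℕ) (S : ℤ) (b : Bool) : Bool :=
  let Z := ((P.p * u : ℕ) : ℤ) * S
  decide (Z < 0) || decide (Z.toNat % (C * C) ≠ 0) ||
    (let n := Z.toNat / (C * C)
     decide (Nat.sqrt n * Nat.sqrt n ≠ n) || (decide (n = 0) && P.pos) || (decide (n ≠ 0) && (P.zero || b)))

/-- The test at the end of a tuple. -/
def Par.chk (P : Par) (f : ℕ) (ε : ℤ) (C : ℕ) (R Q S : ℤ) (b : Bool) : Bool :=
  let r := ε * R
  decide ((C : ℤ) < Q + (((P.p - 1) / P.e : ℕ) : ℤ) * (r * r)) || !(okVal C f r) ||
    decide (((f : ℤ) - r) % (P.m : ℤ) ≠ 0) ||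
    P.us.all fun u => P.noCount u C (S - ε * r * r * ((10200960 / f : ℕ) : ℤ)) b

/-- No data outside the excepted tuples. -/
def Par.dead (P : Par) (excl : List (ℕ × ℕ) → Bool) : Bool :=
  P.tuples.all fun L => excl L || P.Cs.all fun C =>
    fold P.p P.m C (P.chk (P.fOf L) (P.eOf L) C) L 1 1 10200960 false

/-- The candidate orders of the centraliser of an involution: proper multiples of `2p` prime to `no`. -/
def cents (p : ℕ) (no : List ℕ) : List ℕ :=
  divs.filter fun C => decide (C < 10200960 ∧ C % (2 * p) = 0) && no.all fun q => decide (C % q ≠ 0)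

/-- The search at 23 with automizer of order two. -/
def parA : Par :=
  { p := 23, e := 2, lo := 46, m := 92, ok := fun _ => true, Cs := [], us := [], pos := false, zero := false }

/-- The search at 11 with automizer of order two and `u = 96`. -/
def parB : Par :=
  { p := 11, e := 2, lo := 22, m := 44, ok := fun _ => true, Cs := cents 11 [], us := [96], pos := false,
    zero := false }

/-- The search at 11 with automizer of order two. -/
def parC : Par :=
  { p := 11, e := 2, lo := 22, m := 44, ok := okA, Cs := cents 11 [23], us := [1680, 360, 140, 96, 30, 8],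
    pos := false, zero := false }

/-- The search at 11 with automizer of order five. -/
def parD : Par :=
  { p := 11, e := 5, lo := 22, m := 44, ok := okA, Cs := (cents 11 [23]).filter fun C => C % 5 = 0,
    us := [672, 56, 12], pos := false, zero := true }

/-- The search at 5 with automizer of order four. -/
def parF : Par :=
  { p := 5, e := 4, lo := 10, m := 20, ok := okAB, Cs := cents 5 [23, 11],
    us := [1008, 288, 168, 48, 28, 18, 8], pos := false, zero := false }

/-- The search at 5 with automizer of order two. -/
def parG : Par :=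
  { p := 5, e := 2, lo := 10, m := 20, ok := okAB, Cs := cents 5 [23, 11],
    us := [2016, 576, 336, 126, 96, 56, 36, 16, 6], pos := false, zero := false }

/-- The search at 5 with self-centralising subgroup and automizer of order two. -/
def parH : Par :=
  { p := 5, e := 2, lo := 1, m := 4, ok := okAB, Cs := cents 1 [23, 11], us := [1], pos := true, zero := false }

/-- The search at 7 with automizer of order three. -/
def parI : Par :=
  { p := 7, e := 3, lo := 14, m := 28, ok := okAB, Cs := cents 7 [23, 11, 5], us := [128, 16, 2], pos := false,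
    zero := true }

theorem deadA : parA.tuples = [] := by decide +kernel

theorem deadB : parB.dead (fun _ => false) = true := by decide +kernel

theorem deadC : parC.dead (fun _ => false) = true := by decide +kernel

theorem deadD : parD.dead (fun _ => false) = true := by decide +kernel

theorem deadF : parF.dead (fun L => L.any fun w => w.1 == 126) = true := by decide +kernel

theorem deadG : parG.dead (fun _ => false) = true := by decide +kernel

theorem deadH : parH.dead (fun _ => false) = true := by decide +kernel

theorem deadI : parI.dead (fun L => L == [(2024, 1), (1035, 1)] || L == [(1035, 1), (2024, 1)]) = true := by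
  decide +kernel

end CfsgLib.MTwentyThreeUnique.OrderLocal
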