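import Cfsg.Agent.Lib.MTwentyThreeUnique.OrderLocal.SevenValues
import Mathlib

/-!
The Sylow 7-subgroup: centraliser of order 14 and normaliser of order 42; the local data from the order.
-/

set_option autoImplicit false
set_option linter.style.haveILetI false
set_option linter.unusedSectionVars false

noncomputable section

open scoped Classical

namespace CfsgLib.MTwentyThreeUnique.OrderLocal

open Subgroup CfsgLib.InvolChar CfsgLib.Blocks.PrimeSylow CfsgLib.SmallSimple Cfsg
open CfsgLib.MTwentyTwoUnique.FromOrder (reg invSet exists_sylow_zpowers relIndex_and_reg exists_involution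
  sylow_le_centralizer dvs mem_dvs invSet_eq_empty)

variable {G : Type*} [Group G] [Fintype G]

theorem self_five_card (hG : SG G) : ∀ x : G, orderOf x = 5 →
    Nat.card (centralizer ({x} : Set G)) = 15 := by
  haveI : Fact (Nat.Prime 5) := ⟨by norm_num⟩
  exact fun x hx => (five hG x hx).1

/-- Five does not divide the centraliser of an element of order prime to fifteen. -/
theorem not_five_dvd (hG : SG G) {w : G} {q : ℕ} (hw : orderOf w = q) (hq : ¬ q ∣ 15) :
    ¬ 5 ∣ Nat.card (centralizer ({w} : Set G)) := fun h => by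
  haveI : Fact (Nat.Prime 5) := ⟨by norm_num⟩
  obtain ⟨z, hz⟩ := exists_prime_orderOf_dvd_card' (G := centralizer ({w} : Set G)) 5 h
  apply hq
  rw [← hw, ← self_five_card hG z (by rw [Subgroup.orderOf_coe, hz])]
  exact Subgroup.orderOf_dvd_natCard _ (mem_centralizer_singleton_iff.2
    (mem_centralizer_singleton_iff.1 z.2).symm)

/-- The candidates for the Sylow number at seven. -/
def optsD : List (ℕ × ℕ) :=
  ((dvs [128, 9, 5, 11, 23]).filter fun k => decide (k % 7 = 1 ∧ k ≠ 1)).flatMap fun k => [(k, 2), (k, 3), (k, 6)]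

theorem optsD_ok : numsOK 7 1457280 (dvs [128, 9, 5, 11, 23]) optsD = true := by decide +kernel

theorem mem_ksD (k : ℕ) (h : k ∣ 1457280) : k ∈ dvs [128, 9, 5, 11, 23] :=
  mem_dvs [128, 9, 5, 11, 23] (by simp) (by simpa using h)

theorem optsD_cases : ∀ w ∈ optsD, 1457280 % (w.1 * w.2) ≠ 0 ∨ (1457280 / w.1 / w.2) % 23 = 0 ∨
    (1457280 / w.1 / w.2) % 11 = 0 ∨ (1457280 / w.1 / w.2) % 5 = 0 ∨ w.2 = 2 ∨ w.2 = 6 ∨
    (w.2 = 3 ∧ (1457280 / w.1 / w.2) ∈ parI.us) := by decide +kernel

variable [Fact (Nat.Prime 7)]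

/-- Automizers of order two and six do not occur. -/
theorem not_even_seven (hG : SG G) (P : Sylow 7 G) (hP : Nat.card P = 7) {e : ℕ} (he : e = 2 ∨ e = 6)
    (hrel : (centralizer ((P : Subgroup G) : Set G)).relIndex (normalizer ((P : Subgroup G) : Set G)) = e) :
    False := by
  obtain ⟨L, hL, hLd⟩ := exists_list hG
  obtain ⟨D⟩ := exists_blk (P := P) (hP := hP) (e := e) (by omega) (by omega) hrel
  obtain ⟨T, hT, hT', -, hf, -⟩ := D.exists_tuple hG (parJ e) rfl rfl (by norm_num) (by omega)
    (fun χ _ => okAB_deg hG χ) fun χ hχ => hG.two_le_deg (D.ne_one hχ)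
  have h := List.all_eq_true.1 (List.all_eq_true.1 no_fit e (by simpa using he)) T hT
  have h' := List.all_eq_true.1 h L (finals_eq ▸ hL)
  rw [subLe_of_blk D (Q := parJ e) rfl rfl hT' hf hLd] at h'
  exact Bool.false_ne_true h'

set_option maxHeartbeats 800000 in
/-- The Sylow 7-data. -/
theorem seven (hG : SG G) (x : G) (hx : orderOf x = 7) :
    Nat.card (centralizer ({x} : Set G)) = 14 ∧
      Nat.card (normalizer ((zpowers x : Subgroup G) : Set G)) = 42 := by
  haveI := hG.simple
  have hnG : Nat.card G = 7 * 1457280 := by rw [hG.card]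
  obtain ⟨P, hPx, hcx⟩ := exists_sylow_zpowers hnG (by norm_num) hx
  have hP := Band6232.card_of_prime hnG (by norm_num) P
  obtain ⟨k, r, u, hmem, hk, hkru, hN, hC⟩ := exists_numbers hG.not_comm hG.card (p := 7) (m := 1457280)
    (by norm_num) (by norm_num) (by norm_num) P _ mem_ksD optsD optsD_ok
  obtain ⟨hrel, hreg⟩ := relIndex_and_reg P hP hN hC
  have hk0 : 0 < k := hk ▸ Nat.card_pos
  have hr0 : 0 < r := Nat.pos_of_ne_zero fun h => by rw [h] at hkru; simp at hkru
  have hu := prod_eq hkru hk0 hr0
  have h23 : ¬ 23 ∣ 7 * u := not_dvd_of_self (by norm_num) (by norm_num) P hP hC (self_twentyThree hG)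
  have h11 : ¬ 11 ∣ 7 * u := not_dvd_of_self (by norm_num) (by norm_num) P hP hC (self_eleven hG)
  have h5 : ¬ 5 ∣ 7 * u := by
    rw [← hC, ← hcx]
    exact not_five_dvd hG hx (by norm_num)
  rcases optsD_cases _ hmem with h | h | h | h | h | h | h
  · exact absurd (Nat.mod_eq_zero_of_dvd ⟨u, by rw [← hkru, mul_assoc]⟩) h
  · exact absurd (dvd_mul_of_dvd_right (Nat.dvd_of_mod_eq_zero (hu.symm ▸ h)) 7) h23
  · exact absurd (dvd_mul_of_dvd_right (Nat.dvd_of_mod_eq_zero (hu.symm ▸ h)) 7) h11
  · exact absurd (dvd_mul_of_dvd_right (Nat.dvd_of_mod_eq_zero (hu.symm ▸ h)) 7) h5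
  · exact (not_even_seven hG P hP (Or.inl h) hrel).elim
  · exact (not_even_seven hG P hP (Or.inr h) hrel).elim
  · obtain ⟨rfl, hus⟩ : r = 3 ∧ u ∈ parI.us := ⟨h.1, hu ▸ h.2⟩
    have hu2 : 2 ∣ u := by
      have key : ∀ v ∈ parI.us, 2 ∣ v := by decide
      exact key u hus
    obtain ⟨t, ht, ht1, hto, htC, h14⟩ := exists_involution P hP (by norm_num) hC hu2
    obtain ⟨D⟩ := exists_blk (P := P) (hP := hP) (e := 3) (by norm_num) (by norm_num) hrel
    obtain ⟨T, -, hT, hT', hf⟩ := D.excl_of_dead hG parI rfl rfl (by norm_num) (by norm_num) (by decide)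
      deadI (fun χ _ => okAB_deg hG χ) (fun χ hχ => D.two_p_lt hG (by norm_num) ht ht1 htC hχ) ht ht1
      (fun χ hχ => D.cong4p hG (by norm_num) ht ht1 htC hχ)
      (mem_cents (no := [23, 11, 5]) (hG.card ▸ card_subgroup_dvd_card _) (hG.cents_lt ht1) h14 (by
        simp only [List.mem_cons, List.not_mem_nil, or_false, forall_eq_or_imp, forall_eq]
        exact ⟨not_dvd_centralizer (by norm_num) (self_twentyThree hG) ht1 (by rw [hto]; norm_num),
          not_dvd_centralizer (by norm_num) (self_eleven hG) ht1 (by rw [hto]; norm_num),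
          not_five_dvd hG hto (by norm_num)⟩))
      (hreg.symm ▸ hus) (fun h => by simp [parI] at h)
      (fun _ => invSet_eq_empty hrel (by norm_num) (by norm_num) t)
    have hT2 : T = [(2024, 1), (1035, 1)] ∨ T = [(1035, 1), (2024, 1)] := by
      simpa using hT
    have hfT : D.f = 990 := by
      rw [← hf]
      rcases hT2 with rfl | rfl <;> decide +kernel
    have hX : ∀ χ ∈ D.X, deg χ = 1035 ∨ deg χ = 2024 := fun χ hχ => by
      have hm : deg χ ∈ expand T := hT' ▸ Multiset.mem_map_of_mem deg (Finset.mem_def.1 hχ)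
      have := mem_expand_iff hm
      rcases hT2 with rfl | rfl <;> simp at this <;> tauto
    obtain ⟨L, hL, hLd⟩ := exists_list hG
    have hperm : L.isPerm degrees = true := by
      have h := List.all_eq_true.1 only_target L (finals_eq ▸ hL)
      have hs : subLe [1035, 2024, 990, 990] L = true := by
        have := subLe_of_blk D (Q := parI) rfl rfl hT' hf hLd
        have e : blockList parI T = [2024, 1035, 990, 990] ∨ blockList parI T = [1035, 2024, 990, 990] := by
          rcases hT2 with rfl | rfl
          · left; decide +kernel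
          · right; decide +kernel
        rcases e with e | e <;> rw [e] at this
        · simp only [subLe, List.all_eq_true, decide_eq_true_eq] at this ⊢
          intro d hd
          have h1 := this d (by simp at hd ⊢; tauto)
          rwa [List.Perm.count_eq (List.Perm.swap 2024 1035 [990, 990]) d]
        · exact this
      rw [hs] at h
      simpa using h
    have hfib : ∀ d, (Finset.univ.filter fun χ : IrrCharacter G => deg χ = d).card = degrees.count d := by
      intro d
      rw [← (List.isPerm_iff.1 hperm).count_eq d, ← Multiset.coe_count, hLd, Multiset.count_map]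
      simp only [eq_comm (a := d)]
      rfl
    have hu2' : u = 2 := by
      by_contra hne
      refine false_of_values hG hrel hC ?_ D hX hfT hfib
      simp only [parI, List.mem_cons, List.not_mem_nil, or_false] at hus
      omega
    subst hu2'
    exact ⟨hcx ▸ hC, hPx ▸ hN⟩

end CfsgLib.MTwentyThreeUnique.OrderLocal
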