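import Cfsg.Agent.Lib.MTwentyThreeUnique.OrderLocal.Degrees
import Cfsg.Agent.Lib.Char.ThreeDegrees
import Cfsg.Agent.Lib.CharBlocks.Codegree
import Mathlib

/-!
The column at an element of order seven when the degrees are those of the Mathieu group of degree 23: the
regular part of its centraliser has order two.
-/

set_option autoImplicit false
set_option linter.style.haveILetI false
set_option linter.unusedSectionVars false

noncomputable section

open scoped ComplexConjugate Classical

namespace CfsgLib.MTwentyThreeUnique.OrderLocal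

open Subgroup CfsgLib.InvolChar CfsgLib.Blocks CfsgLib.Blocks.PrimeSylow Cfsg
open CfsgLib.MTwentyTwoUnique (SC)

variable {G : Type*} [Group G] [Fintype G]

/-- Twice a real value is an integer when the element is conjugate to its square. -/
theorem two_mul_int_of_real {x : G} (hx : orderOf x = 7) (c2 : IsConj x (x ^ 2)) (χ : IrrCharacter G)
    (hreal : conj ((χ : G → ℂ) x) = (χ : G → ℂ) x) : ∃ n : ℤ, 2 * (χ : G → ℂ) x = (n : ℂ) := by
  have hval : ∀ {a b : G}, IsConj a b → (χ : G → ℂ) a = (χ : G → ℂ) b := fun h =>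
    CfsgLib.MTwelveUnique.eq_of_isConj χ h
  have e2 : (χ : G → ℂ) (x ^ 2) = (χ : G → ℂ) x := (hval c2).symm
  have e4 : (χ : G → ℂ) (x ^ 4) = (χ : G → ℂ) x := by
    obtain ⟨g, hg⟩ := isConj_iff.1 c2
    rw [← e2]
    refine (hval (isConj_iff.2 ⟨g, ?_⟩)).symm
    rw [pow_conj, hg, ← pow_mul]
  have hinv : ∀ a b : ℕ, a + b = 7 → (χ : G → ℂ) (x ^ a) = conj ((χ : G → ℂ) (x ^ b)) := fun a b h => by
    have h7 : x ^ 7 = 1 := hx ▸ pow_orderOf_eq_one x
    rw [eq_inv_of_mul_eq_one_left (show x ^ a * x ^ b = 1 by rw [← pow_add, h, h7]),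
      CfsgLib.Char.char_inv (CfsgLib.Char.isCharacter_of_isIrr χ.2)]
  obtain ⟨g, N, hg, -, -, -⟩ := CfsgLib.MathieuBlocks.pair_rel χ.2 x hx ({1, 2, 3, 4, 5, 6} : Finset ℕ)
    (by decide) ⟨1, by simp⟩ (z := (χ : G → ℂ) x) (fun i hi => by
      simp only [Finset.mem_insert, Finset.mem_singleton] at hi
      rcases hi with rfl | rfl | rfl | rfl | rfl | rfl
      · exact Or.inl (by rw [pow_one])
      · exact Or.inl e2
      · exact Or.inr (by rw [hinv 3 4 rfl, e4])
      · exact Or.inl e4
      · exact Or.inr (by rw [hinv 5 2 rfl, e2])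
      · exact Or.inr (by rw [hinv 6 1 rfl, pow_one]))
    (fun _ => (deg χ : ℤ)) (fun i hi => by
      have : i = 0 := by
        have h : Finset.range 7 \ ({1, 2, 3, 4, 5, 6} : Finset ℕ) = {0} := by decide
        rw [h] at hi
        exact Finset.mem_singleton.1 hi
      subst this
      rw [pow_zero, deg_spec, Int.cast_natCast])
  exact ⟨g, by rw [two_mul]; nth_rw 2 [← hreal]; exact hg⟩

/-- The conjugate character. -/
def conjChar (χ : IrrCharacter G) : IrrCharacter G :=
  ⟨fun g => conj ((χ : G → ℂ) g), CfsgLib.ThreeDeg.isIrr_conj' χ.2⟩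

theorem deg_conjChar (χ : IrrCharacter G) : deg (conjChar χ) = deg χ := by
  have h : conj ((χ : G → ℂ) 1) = (deg (conjChar χ) : ℂ) := deg_spec (conjChar χ)
  rw [deg_spec χ, map_natCast] at h
  exact_mod_cast h.symm

/-- A signed sum over a self-centralising block as a sum over all characters. -/
theorem sc_rel_value {p e : ℕ} [Fact p.Prime] (B : SC G p e) (hp : 2 < p)
    (hbad : ∀ χ ∈ B.Y, deg χ % p ≠ 1 ∧ deg χ % p ≠ p - 1) {x : G} (hxp : ¬ p ∣ orderOf x) {θ : IrrCharacter G}
    (hθ : θ ∈ B.Y) :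
    (B.ε : ℂ) * (θ : G → ℂ) x = ∑ χ : IrrCharacter G,
      (if deg χ % p = 1 then (χ : G → ℂ) x else if deg χ % p = p - 1 then -(χ : G → ℂ) x else 0) := by
  rw [B.rel θ hθ x hxp, ← Finset.sum_subset (Finset.subset_univ B.X) fun χ _ hχ => by
    by_cases hY : χ ∈ B.Y
    · rw [if_neg (hbad χ hY).1, if_neg (hbad χ hY).2]
    · have h0 := Nat.mod_eq_zero_of_dvd (B.out_dvd χ hχ hY)
      rw [if_neg (by omega), if_neg (by omega)]]
  refine Finset.sum_congr rfl fun χ hχ => ?_
  have hs := CfsgLib.MTwentyTwoUnique.sgn_eq hp (B.s_sq χ hχ) (B.deg_X χ hχ)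
  rw [← hs]
  have hm : deg χ % p = 1 ∨ deg χ % p = p - 1 := by
    have h := B.deg_X χ hχ
    have h' : ((deg χ % p : ℕ) : ℤ) = B.s χ % p := by
      push_cast
      exact Int.emod_eq_emod_iff_emod_sub_eq_zero.mpr (Int.emod_eq_zero_of_dvd h)
    rcases B.s_sq χ hχ with k | k <;> rw [k] at h'
    · rw [Int.emod_eq_of_lt (by norm_num) (by omega)] at h'
      exact Or.inl (by exact_mod_cast h')
    · rw [show (-1 : ℤ) % (p : ℤ) = (p : ℤ) - 1 by
        rw [← Int.add_emod_right]
        exact (Int.emod_eq_of_lt (by omega) (by omega)).trans (by ring)] at h'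
      exact Or.inr (by omega)
  rcases hm with h | h
  · simp [CfsgLib.MTwentyTwoUnique.sgn, h]
  · have h1 : ¬ p - 1 = 1 := by omega
    simp [CfsgLib.MTwentyTwoUnique.sgn, h, h1]

/-- The sum over the characters, fibre by fibre. -/
theorem sum_by_degree (hfib : ∀ d, (Finset.univ.filter fun χ : IrrCharacter G => deg χ = d).card =
      degrees.count d) {M : Type} [AddCommMonoid M] (F : IrrCharacter G → M) {a e h k z θ θ' g g' : IrrCharacter G}
    {c u q : Finset (IrrCharacter G)}
    (ha : Finset.univ.filter (fun χ : IrrCharacter G => deg χ = 22) = {a})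
    (hθ : Finset.univ.filter (fun χ : IrrCharacter G => deg χ = 45) = {θ, θ'}) (hθne : θ ≠ θ')
    (he : Finset.univ.filter (fun χ : IrrCharacter G => deg χ = 230) = {e})
    (hc : Finset.univ.filter (fun χ : IrrCharacter G => deg χ = 231) = c)
    (hh : Finset.univ.filter (fun χ : IrrCharacter G => deg χ = 253) = {h})
    (hu : Finset.univ.filter (fun χ : IrrCharacter G => deg χ = 770) = u)
    (hq : Finset.univ.filter (fun χ : IrrCharacter G => deg χ = 896) = q)
    (hg : Finset.univ.filter (fun χ : IrrCharacter G => deg χ = 990) = {g, g'}) (hgne : g ≠ g')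
    (hk : Finset.univ.filter (fun χ : IrrCharacter G => deg χ = 1035) = {k})
    (hz : Finset.univ.filter (fun χ : IrrCharacter G => deg χ = 2024) = {z}) :
    ∑ χ, F χ = F CfsgLib.Char.irrOne + (F a + ((F θ + F θ') + (F e + (∑ χ ∈ c, F χ + (F h +
      (∑ χ ∈ u, F χ + (∑ χ ∈ q, F χ + ((F g + F g') + (F k + F z))))))))) := by
  have h1 : Finset.univ.filter (fun χ : IrrCharacter G => deg χ = 1) = {CfsgLib.Char.irrOne} := by
    obtain ⟨o, ho⟩ := Finset.card_eq_one.1 (hfib 1)
    rw [ho]
    have : CfsgLib.Char.irrOne ∈ ({o} : Finset (IrrCharacter G)) := ho ▸ by simp [deg_irrOne]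
    rw [Finset.mem_singleton.1 this]
  rw [← Finset.sum_fiberwise_of_maps_to (g := deg) (t := ({1, 22, 45, 230, 231, 253, 770, 896, 990, 1035,
    2024} : Finset ℕ)) (fun χ _ => ?_) F]
  · rw [Finset.sum_insert (by decide), Finset.sum_insert (by decide), Finset.sum_insert (by decide),
      Finset.sum_insert (by decide), Finset.sum_insert (by decide), Finset.sum_insert (by decide),
      Finset.sum_insert (by decide), Finset.sum_insert (by decide), Finset.sum_insert (by decide),
      Finset.sum_insert (by decide), Finset.sum_singleton, h1, ha, hθ, he, hc, hh, hu, hq, hg, hk, hz,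
      Finset.sum_singleton, Finset.sum_singleton, Finset.sum_pair hθne, Finset.sum_singleton,
      Finset.sum_singleton, Finset.sum_pair hgne, Finset.sum_singleton, Finset.sum_singleton]
  · have hm : deg χ ∈ degrees := by
      by_contra hn
      have h0 := hfib (deg χ)
      rw [List.count_eq_zero.2 hn, Finset.card_eq_zero, Finset.filter_eq_empty_iff] at h0
      exact h0 (Finset.mem_univ χ) rfl
    simp only [degrees, List.mem_cons, List.not_mem_nil, or_false] at hm
    simp only [Finset.mem_insert, Finset.mem_singleton]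
    omega

theorem neg_one_cube : ((-1 : ZMod 7)) ^ 3 ≠ 1 := by decide

theorem cube_units : ∀ w : (ZMod 7)ˣ, w ^ 3 = 1 → w ≠ 1 →
    (w : ZMod 7) = 2 ∨ ((w * w : (ZMod 7)ˣ) : ZMod 7) = 2 := by decide

variable [Fact (Nat.Prime 7)]

set_option maxHeartbeats 1600000 in
/-- The regular part at seven is not `16` or `128`. -/
theorem false_of_values (hG : SG G) {P : Sylow 7 G} {hP : Nat.card P = 7}
    (hrel : (centralizer ((P : Subgroup G) : Set G)).relIndex (normalizer ((P : Subgroup G) : Set G)) = 3)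
    {u : ℕ} (hC : Nat.card (centralizer ((P : Subgroup G) : Set G)) = 7 * u) (hu : u = 128 ∨ u = 16)
    (D : Blk G P hP 3) (hX : ∀ χ ∈ D.X, deg χ = 1035 ∨ deg χ = 2024) (hf : D.f = 990)
    (hfib : ∀ d, (Finset.univ.filter fun χ : IrrCharacter G => deg χ = d).card = degrees.count d) : False := by
  set x := pw P hP (1 : ZMod 7) with hxdef
  have hxo : orderOf x = 7 := by
    rw [← Nat.card_zpowers, hxdef, zpowers_pw P hP one_ne_zero]
    exact hP
  have hx1 : x ≠ 1 := fun h => by rw [h, orderOf_one] at hxo; norm_num at hxo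
  -- the powers of `x` conjugate to it
  have hcube : ∀ v ∈ (rhoU P hP).range, v ^ 3 = 1 := fun v hv => by
    have h : Nat.card (rhoU P hP).range = 3 := by rw [card_range_rhoU, hrel]
    have h' := pow_card_eq_one' (x := (⟨v, hv⟩ : (rhoU P hP).range))
    rw [h] at h'
    exact congrArg Subtype.val h'
  have hninv : ¬ IsConj x x⁻¹ := fun h => by
    have e1 : x⁻¹ = pw P hP (-1) := by rw [inv_eq_iff_mul_eq_one, hxdef, ← pw_add, add_neg_cancel, pw_zero]
    rw [e1] at h
    obtain ⟨v, hv, hv'⟩ := (isConj_pw_iff P hP one_ne_zero).1 h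
    have h3 := congrArg (Units.val) (hcube v hv)
    rw [Units.val_pow_eq_pow_val, Units.val_one] at h3
    rw [mul_one] at hv'
    rw [hv'] at h3
    exact neg_one_cube h3
  have c2 : IsConj x (x ^ 2) := by
    obtain ⟨v, hv, hv1⟩ : ∃ v ∈ (rhoU P hP).range, v ≠ 1 := by
      by_contra hne
      push Not at hne
      have h : Nat.card (rhoU P hP).range = 3 := by rw [card_range_rhoU, hrel]
      haveI : Subsingleton (rhoU P hP).range := ⟨fun a b => Subtype.ext ((hne a a.2).trans (hne b b.2).symm)⟩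
      rw [Nat.card_of_subsingleton ⟨1, one_mem _⟩] at h
      omega
    rw [hxdef, pw_pow, Nat.cast_ofNat, mul_one]
    rcases cube_units v (hcube v hv) hv1 with h | h
    · exact (isConj_pw_iff P hP one_ne_zero).2 ⟨v, hv, by rw [mul_one]; exact h⟩
    · exact (isConj_pw_iff P hP one_ne_zero).2 ⟨v * v, mul_mem hv hv, by rw [mul_one]; exact h⟩
  -- the characters
  obtain ⟨a, ha⟩ := Finset.card_eq_one.1 (hfib 22)
  obtain ⟨θ, θ', hθne, hθ⟩ := Finset.card_eq_two.1 (hfib 45)
  obtain ⟨e, he⟩ := Finset.card_eq_one.1 (hfib 230)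
  obtain ⟨h, hh⟩ := Finset.card_eq_one.1 (hfib 253)
  obtain ⟨g, g', hgne, hg⟩ := Finset.card_eq_two.1 (hfib 990)
  obtain ⟨k, hk⟩ := Finset.card_eq_one.1 (hfib 1035)
  obtain ⟨z, hz⟩ := Finset.card_eq_one.1 (hfib 2024)
  have hd : ∀ {d : ℕ} {s : Finset (IrrCharacter G)}, (Finset.univ.filter fun χ : IrrCharacter G => deg χ = d) = s →
      ∀ {χ}, χ ∈ s → deg χ = d := by
    intro d s e χ h
    rw [← e] at h
    exact (Finset.mem_filter.1 h).2
  have da := hd ha (Finset.mem_singleton_self a)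
  have de := hd he (Finset.mem_singleton_self e)
  have dh := hd hh (Finset.mem_singleton_self h)
  have dk := hd hk (Finset.mem_singleton_self k)
  have dz := hd hz (Finset.mem_singleton_self z)
  have dθ : deg θ = 45 := hd hθ (Finset.mem_insert_self θ _)
  have dθ' : deg θ' = 45 := hd hθ (by simp)
  have dg : deg g = 990 := hd hg (Finset.mem_insert_self g _)
  have dg' : deg g' = 990 := hd hg (by simp)
  have hsum := fun {M : Type} [AddCommMonoid M] (F : IrrCharacter G → M) =>
    sum_by_degree (G := G) hfib F ha hθ hθne he rfl hh rfl rfl hg hgne hk hz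
  have hvan : ∀ χ : IrrCharacter G, deg χ = 231 ∨ deg χ = 770 ∨ deg χ = 896 → (χ : G → ℂ) x = 0 := by
    intro χ hd'
    have hdd : Cfsg.charDegree (χ : G → ℂ) = deg χ := CfsgLib.SmallGroups.BrauerFew.deg_eq_charDegree χ
    refine CfsgLib.CharBlocks.vanish_of_not_dvd (q := 7) (by norm_num) χ (t := 10200960 / deg χ) ?_ ?_
      (dvd_of_eq hxo.symm)
    · rw [hG.card, hdd, Nat.div_mul_cancel (hG.deg_dvd χ)]
    · rcases hd' with h | h | h <;> rw [h] <;> norm_num
  have z231 : ∀ χ ∈ Finset.univ.filter (fun χ : IrrCharacter G => deg χ = 231), (χ : G → ℂ) x = 0 :=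
    fun χ hχ => hvan χ (Or.inl (Finset.mem_filter.1 hχ).2)
  have z770 : ∀ χ ∈ Finset.univ.filter (fun χ : IrrCharacter G => deg χ = 770), (χ : G → ℂ) x = 0 :=
    fun χ hχ => hvan χ (Or.inr (Or.inl (Finset.mem_filter.1 hχ).2))
  have z896 : ∀ χ ∈ Finset.univ.filter (fun χ : IrrCharacter G => deg χ = 896), (χ : G → ℂ) x = 0 :=
    fun χ hχ => hvan χ (Or.inr (Or.inr (Finset.mem_filter.1 hχ).2))
  have hzero : ∀ (d : ℕ) (F : IrrCharacter G → ℂ), (∀ χ : IrrCharacter G, (χ : G → ℂ) x = 0 → F χ = 0) →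
      d = 231 ∨ d = 770 ∨ d = 896 →
      ∑ χ ∈ Finset.univ.filter (fun χ : IrrCharacter G => deg χ = d), F χ = 0 := fun d F hF hd' =>
    Finset.sum_eq_zero fun χ hχ => hF χ (hvan χ ((Finset.mem_filter.1 hχ).2 ▸ hd'))
  -- the block at seven
  have hYsub : D.Y = {g, g'} := by
    refine Finset.eq_of_subset_of_card_le (fun χ hχ => ?_) ?_
    · rw [← hg]; exact Finset.mem_filter.2 ⟨Finset.mem_univ _, (D.deg_Y χ hχ).trans hf⟩
    · rw [Finset.card_pair hgne, D.card_Y]
  have hXsub : D.X = {k, z} := by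
    refine Finset.eq_of_subset_of_card_le (fun χ hχ => ?_) ?_
    · rcases hX χ hχ with h | h
      · have : χ ∈ ({k} : Finset (IrrCharacter G)) := hk ▸ Finset.mem_filter.2 ⟨Finset.mem_univ _, h⟩
        simp [Finset.mem_singleton.1 this]
      · have : χ ∈ ({z} : Finset (IrrCharacter G)) := hz ▸ Finset.mem_filter.2 ⟨Finset.mem_univ _, h⟩
        simp [Finset.mem_singleton.1 this]
    · rw [Finset.card_pair (fun h => by rw [h, dz] at dk; norm_num at dk), D.card_X]
  have hkz : (k : G → ℂ) x = -1 ∧ (z : G → ℂ) x = 1 := by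
    have hkX : k ∈ D.X := by rw [hXsub]; simp
    have hzX : z ∈ D.X := by rw [hXsub]; simp
    have sk : D.s k = -1 := by
      have h := D.deg_X k hkX
      rcases D.s_sq k hkX with s | s
      · rw [dk, s] at h; norm_num at h
      · exact s
    have sz : D.s z = 1 := by
      have h := D.deg_X z hzX
      rcases D.s_sq z hzX with s | s
      · exact s
      · rw [dz, s] at h; norm_num at h
    rw [hxdef, D.val_X k hkX 1 one_ne_zero, D.val_X z hzX 1 one_ne_zero, sk, sz]
    norm_num
  obtain ⟨hk', hz'⟩ := hkz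
  have hS : (g : G → ℂ) x + (g' : G → ℂ) x = -1 := by
    have h := D.sum_Y 1 one_ne_zero
    rw [hYsub, Finset.sum_pair hgne] at h
    have hε : D.ε = 1 := by
      have h' := D.deg_f
      rw [hf] at h'
      rcases D.ε_sq with s | s
      · exact s
      · rw [s] at h'; norm_num at h'
    rw [hxdef, h, hε]
    norm_num
  have hnb : (g : G → ℂ) x * conj ((g : G → ℂ) x) + (g' : G → ℂ) x * conj ((g' : G → ℂ) x) = 4 := by
    have h := D.norm 1 one_ne_zero
    rw [Finset.sum_union D.disj, hXsub, hYsub, Finset.sum_pair hgne,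
      Finset.sum_pair (fun h => by rw [h, dz] at dk; norm_num at dk), ← hxdef, hk', hz'] at h
    simp only [map_neg, map_one] at h
    push_cast at h
    linear_combination h
  -- the blocks at 11 and 23, and orthogonality
  obtain ⟨⟨A⟩, ⟨B⟩⟩ := exists_sc_pair hG
  have hxn : ∀ q : ℕ, q.Prime → q ≠ 7 → ¬ q ∣ orderOf x := fun q hq hq7 h => by
    rw [hxo] at h
    exact hq7 ((Nat.prime_dvd_prime_iff_eq hq (by norm_num)).1 h)
  have hmem : ∀ χ : IrrCharacter G, deg χ ∈ degrees := fun χ => by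
    by_contra hn
    have h0 := hfib (deg χ)
    rw [List.count_eq_zero.2 hn, Finset.card_eq_zero, Finset.filter_eq_empty_iff] at h0
    exact h0 (Finset.mem_univ χ) rfl
  have hA : 0 = (1 : ℂ) - (a : G → ℂ) x - ((θ : G → ℂ) x + (θ' : G → ℂ) x) +
      ((g : G → ℂ) x + (g' : G → ℂ) x) := by
    haveI : Fact (Nat.Prime 23) := ⟨by norm_num⟩
    obtain ⟨η, hη⟩ := A.Y_ne
    have hAY : ∀ χ ∈ A.Y, deg χ % 23 = 11 ∨ deg χ % 23 = 12 := fun χ hχ => by
      have h' := A.deg_f
      rw [← A.deg_Y χ hχ] at h'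
      rcases A.ε_sq with s | s <;> rw [s] at h' <;> omega
    have h := sc_rel_value A (by norm_num)
      (fun χ hχ => by rcases hAY χ hχ with h | h <;> omega) (hxn 23 (by norm_num) (by norm_num)) hη
    have hη0 : (η : G → ℂ) x = 0 := hvan η (by
      have key : ∀ d ∈ degrees, (d % 23 = 11 ∨ d % 23 = 12) → d = 231 ∨ d = 770 ∨ d = 896 := by decide
      exact key _ (hmem η) (hAY η hη))
    rw [hη0, mul_zero, hsum, hzero 231 _ (fun χ h0 => by simp [h0]) (by norm_num),
      hzero 770 _ (fun χ h0 => by simp [h0]) (by norm_num),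
      hzero 896 _ (fun χ h0 => by simp [h0]) (by norm_num)] at h
    simp only [deg_irrOne, da, dθ, dθ', de, dh, dg, dg', dk, dz, CfsgLib.Char.irrOne_apply] at h
    norm_num at h
    linear_combination h
  have hB : 0 = (1 : ℂ) + ((θ : G → ℂ) x + (θ' : G → ℂ) x) - (e : G → ℂ) x + (k : G → ℂ) x := by
    haveI : Fact (Nat.Prime 11) := ⟨by norm_num⟩
    obtain ⟨η, hη⟩ := B.Y_ne
    have hBY : ∀ χ ∈ B.Y, deg χ % 11 = 5 ∨ deg χ % 11 = 6 := fun χ hχ => by
      have h' := B.deg_f
      rw [← B.deg_Y χ hχ] at h'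
      rcases B.ε_sq with s | s <;> rw [s] at h' <;> omega
    have h := sc_rel_value B (by norm_num)
      (fun χ hχ => by rcases hBY χ hχ with h | h <;> omega) (hxn 11 (by norm_num) (by norm_num)) hη
    have hη0 : (η : G → ℂ) x = 0 := hvan η (by
      have key : ∀ d ∈ degrees, (d % 11 = 5 ∨ d % 11 = 6) → d = 231 ∨ d = 770 ∨ d = 896 := by decide
      exact key _ (hmem η) (hBY η hη))
    rw [hη0, mul_zero, hsum, hzero 231 _ (fun χ h0 => by simp [h0]) (by norm_num),
      hzero 770 _ (fun χ h0 => by simp [h0]) (by norm_num),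
      hzero 896 _ (fun χ h0 => by simp [h0]) (by norm_num)] at h
    simp only [deg_irrOne, da, dθ, dθ', de, dh, dg, dg', dk, dz, CfsgLib.Char.irrOne_apply] at h
    norm_num at h
    linear_combination h
  have hO : (1 : ℂ) + 22 * (a : G → ℂ) x + 45 * ((θ : G → ℂ) x + (θ' : G → ℂ) x) + 230 * (e : G → ℂ) x +
      253 * (h : G → ℂ) x + 990 * ((g : G → ℂ) x + (g' : G → ℂ) x) + 1035 * (k : G → ℂ) x +
      2024 * (z : G → ℂ) x = 0 := by
    have ho := CfsgLib.Char.second_orthogonality x 1
    rw [if_neg (fun hc => hx1 (isConj_one_left.mp hc))] at ho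
    rw [hsum, hzero 231 _ (fun χ h0 => by simp [h0]) (by norm_num),
      hzero 770 _ (fun χ h0 => by simp [h0]) (by norm_num),
      hzero 896 _ (fun χ h0 => by simp [h0]) (by norm_num)] at ho
    simp only [deg_spec, map_natCast, deg_irrOne, da, dθ, dθ', de, dh, dg, dg', dk, dz,
      CfsgLib.Char.irrOne_apply, map_one] at ho
    push_cast at ho
    linear_combination ho
  have hQ : (1 : ℂ) + (a : G → ℂ) x ^ 2 + ((θ : G → ℂ) x ^ 2 + (θ' : G → ℂ) x ^ 2) + (e : G → ℂ) x ^ 2 +
      (h : G → ℂ) x ^ 2 + ((g : G → ℂ) x ^ 2 + (g' : G → ℂ) x ^ 2) + (k : G → ℂ) x ^ 2 +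
      (z : G → ℂ) x ^ 2 = 0 := by
    have ho := CfsgLib.Char.second_orthogonality x x⁻¹
    rw [if_neg hninv] at ho
    rw [Finset.sum_congr rfl (g := fun χ : IrrCharacter G => (χ : G → ℂ) x * (χ : G → ℂ) x) fun χ _ => by
      rw [CfsgLib.Char.char_inv (CfsgLib.Char.isCharacter_of_isIrr χ.2), Complex.conj_conj]] at ho
    rw [hsum, hzero 231 _ (fun χ h0 => by simp [h0]) (by norm_num),
      hzero 770 _ (fun χ h0 => by simp [h0]) (by norm_num),
      hzero 896 _ (fun χ h0 => by simp [h0]) (by norm_num), CfsgLib.Char.irrOne_apply] at ho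
    linear_combination ho
  have hN : (1 : ℂ) + (a : G → ℂ) x * conj ((a : G → ℂ) x) + ((θ : G → ℂ) x * conj ((θ : G → ℂ) x) +
      (θ' : G → ℂ) x * conj ((θ' : G → ℂ) x)) + (e : G → ℂ) x * conj ((e : G → ℂ) x) +
      (h : G → ℂ) x * conj ((h : G → ℂ) x) + ((g : G → ℂ) x * conj ((g : G → ℂ) x) +
      (g' : G → ℂ) x * conj ((g' : G → ℂ) x)) + (k : G → ℂ) x * conj ((k : G → ℂ) x) +
      (z : G → ℂ) x * conj ((z : G → ℂ) x) = 7 * (u : ℂ) := by
    have ho := CfsgLib.Char.second_orthogonality x x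
    rw [if_pos (IsConj.refl x)] at ho
    have hcx : Nat.card (centralizer ({x} : Set G)) = 7 * u := by
      rw [hxdef, centralizer_pw P hP one_ne_zero, hC]
    rw [hcx, hsum, hzero 231 _ (fun χ h0 => by simp [h0]) (by norm_num),
      hzero 770 _ (fun χ h0 => by simp [h0]) (by norm_num),
      hzero 896 _ (fun χ h0 => by simp [h0]) (by norm_num), CfsgLib.Char.irrOne_apply, map_one] at ho
    push_cast at ho
    linear_combination ho
  -- reality
  have hcj : ∀ χ : IrrCharacter G, (conjChar χ : G → ℂ) x = conj ((χ : G → ℂ) x) := fun χ => rfl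
  have hereal : conj ((e : G → ℂ) x) = (e : G → ℂ) x := by
    have : conjChar e ∈ ({e} : Finset (IrrCharacter G)) :=
      he ▸ Finset.mem_filter.2 ⟨Finset.mem_univ _, (deg_conjChar e).trans de⟩
    rw [← hcj, Finset.mem_singleton.1 this]
  obtain ⟨n, hn⟩ := two_mul_int_of_real hxo c2 e hereal
  set E := (e : G → ℂ) x with hE
  set T := (θ : G → ℂ) x
  set T' := (θ' : G → ℂ) x
  set A1 := (g : G → ℂ) x with hA1
  set A2 := (g' : G → ℂ) x
  have hTT : T + T' = E := by linear_combination -hk' - hB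
  have haE : (a : G → ℂ) x = -E := by linear_combination hA - hTT + hS
  have hhE : (h : G → ℂ) x = -E := by
    linear_combination (1 / 253 : ℂ) * hO - (22 / 253 : ℂ) * haE - (45 / 253 : ℂ) * hTT -
      (990 / 253 : ℂ) * hS - (1035 / 253 : ℂ) * hk' - (2024 / 253 : ℂ) * hz'
  have hA2 : A2 = conj A1 := by
    by_cases hr : conj A1 = A1
    · exfalso
      have hr' : conj A2 = A2 := by
        have h1 := congrArg conj hS
        rw [map_add, map_neg, map_one, hr] at h1
        linear_combination h1 - hS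
      rw [hr, hr'] at hnb
      have hm : 2 * (A1 * A2) = -3 := by linear_combination (A1 + A2 - 1) * hS - hnb
      have hint : IsIntegral ℤ (((-3 / 2 : ℚ)) : ℂ) := by
        have e1 : (((-3 / 2 : ℚ)) : ℂ) = A1 * A2 := by push_cast; linear_combination (-1 / 2 : ℂ) * hm
        rw [e1]
        exact (CfsgLib.Char.char_isIntegral (CfsgLib.Char.isCharacter_of_isIrr g.2) x).mul
          (CfsgLib.Char.char_isIntegral (CfsgLib.Char.isCharacter_of_isIrr g'.2) x)
      obtain ⟨w, hw⟩ := CfsgLib.Char.exists_int_of_isIntegral_rat hint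
      have : (2 * w : ℤ) = -3 := by
        have h2 : ((2 * w : ℤ) : ℚ) = ((-3 : ℤ) : ℚ) := by push_cast; linarith
        exact_mod_cast h2
      omega
    · have hm : conjChar g ∈ ({g, g'} : Finset (IrrCharacter G)) :=
        hg ▸ Finset.mem_filter.2 ⟨Finset.mem_univ _, (deg_conjChar g).trans dg⟩
      rcases Finset.mem_insert.1 hm with h1 | h1
      · exact absurd ((hcj g).symm.trans (by rw [h1])) hr
      · rw [← hcj, Finset.mem_singleton.1 h1]
  have hAA : A1 ^ 2 + A2 ^ 2 = -3 := by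
    rw [hA2] at hS hnb ⊢
    rw [Complex.conj_conj] at hnb
    linear_combination (A1 + conj A1 - 1) * hS - hnb
  have hTsq : T ^ 2 + T' ^ 2 = -3 * E ^ 2 := by
    rw [haE, hhE, hk', hz'] at hQ
    linear_combination hQ - hAA
  have hd2 : (T - T') ^ 2 = -7 * E ^ 2 := by linear_combination 2 * hTsq - (T + T' + E) * hTT
  have hT' : T' = conj T := by
    have hc : conj (T - T') = -(T - T') := by
      have h1 : (conj (T - T') - (T - T')) * (conj (T - T') + (T - T')) = 0 := by
        have h2 : conj ((T - T') ^ 2) = (T - T') ^ 2 := by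
          rw [hd2, map_mul, map_pow, hereal, map_neg, map_ofNat]
        rw [map_pow] at h2
        linear_combination h2
      rcases mul_eq_zero.1 h1 with h3 | h3
      · obtain ⟨r, hr⟩ := Complex.conj_eq_iff_real.1 (sub_eq_zero.1 h3)
        obtain ⟨m, hm⟩ := Complex.conj_eq_iff_real.1 hereal
        rw [hr, hm] at hd2
        have h4 : r ^ 2 = -7 * m ^ 2 := by exact_mod_cast hd2
        have h5 : r = 0 := by nlinarith
        rw [hr, h5]; simp
      · linear_combination h3
    have h1 := congrArg conj hTT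
    rw [map_add, hereal] at h1
    rw [map_sub] at hc
    linear_combination (1 / 2 : ℂ) * (hTT - hc - h1)
  have hNE : 7 + 7 * E ^ 2 = 7 * (u : ℂ) := by
    rw [haE, hhE, hk', hz', hT', map_neg, hereal, map_neg, map_one, Complex.conj_conj] at hN
    rw [hT'] at hTT hTsq
    linear_combination hN - hnb - (T + conj T + E) * hTT + hTsq
  have hn2 : n * n = 4 * ((u : ℤ) - 1) := by
    have : ((n * n : ℤ) : ℂ) = ((4 * ((u : ℤ) - 1) : ℤ) : ℂ) := by
      push_cast
      rw [← hn]
      linear_combination (4 / 7 : ℂ) * hNE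
    exact_mod_cast this
  have hb : -23 ≤ n ∧ n ≤ 23 := by
    rcases hu with rfl | rfl <;> push_cast at hn2 <;> constructor <;> nlinarith
  obtain ⟨h1, h2⟩ := hb
  rcases hu with rfl | rfl <;> interval_cases n <;> norm_num at hn2

end CfsgLib.MTwentyThreeUnique.OrderLocal
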