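import Cfsg.Agent.Lib.MTwentyThreeUnique.OrderLocal.Search
import Cfsg.Agent.Lib.MTwentyThreeUnique.OrderLocal.Block
import Mathlib

/-!
From the principal block to the searches.
-/

set_option autoImplicit false
set_option linter.unusedSectionVars false

noncomputable section

open scoped Classical

namespace CfsgLib.MTwentyThreeUnique.OrderLocal

open Subgroup CfsgLib.InvolChar CfsgLib.Blocks CfsgLib.Blocks.PrimeSylow Cfsg
open CfsgLib.MTwentyTwoUnique (sgn tsgn)
open CfsgLib.MTwentyTwoUnique.FromOrder (PB reg invSet dvs mem_dvs)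

theorem mem_divs {d : ℕ} (h : d ∣ 10200960) : d ∈ divs :=
  mem_dvs [128, 9, 5, 7, 11, 23] (by simp) (by simpa using h)

theorem mem_cents {p : ℕ} {no : List ℕ} {C : ℕ} (h : C ∣ 10200960) (hlt : C < 10200960) (h2 : 2 * p ∣ C)
    (hno : ∀ q ∈ no, ¬ q ∣ C) : C ∈ cents p no := by
  refine List.mem_filter.2 ⟨mem_divs h, ?_⟩
  simp only [Bool.and_eq_true, decide_eq_true_eq, List.all_eq_true]
  exact ⟨⟨hlt, Nat.mod_eq_zero_of_dvd h2⟩, fun q hq h0 => hno q hq (Nat.dvd_of_mod_eq_zero h0)⟩

/-- The multiset of a list with multiplicities. -/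
def expand : List (ℕ × ℕ) → Multiset ℕ
  | [] => 0
  | (d, k) :: L => Multiset.replicate k d + expand L

theorem expand_sums (p : ℕ) : ∀ L : List (ℕ × ℕ),
    total p L = ((expand L).map fun d => sgn p d * (d : ℤ)).sum ∧
      sqTotal L = ((expand L).map fun d => d * d).sum
  | [] => by simp [total, sqTotal, expand]
  | (d, k) :: L => by
    obtain ⟨h1, h2⟩ := expand_sums p L
    refine ⟨?_, ?_⟩ <;>
      simp only [total, sqTotal, expand, Multiset.map_add, Multiset.sum_add, Multiset.map_replicate,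
        Multiset.sum_replicate, h1, h2, smul_eq_mul]
    push_cast [nsmul_eq_mul]
    ring

theorem mem_expand_iff : ∀ {L : List (ℕ × ℕ)} {d : ℕ}, d ∈ expand L → d ∈ L.map Prod.fst
  | [], d, h => by simp [expand] at h
  | (a, k) :: L, d, h => by
    rcases Multiset.mem_add.1 h with h | h
    · exact List.mem_cons.2 (Or.inl (Multiset.eq_of_mem_replicate h))
    · exact List.mem_cons_of_mem _ (mem_expand_iff h)

theorem exists_mem_runs : ∀ (X : List ℕ) (M : Multiset ℕ) (k B : ℕ), X.Nodup → (∀ d ∈ M, d ∈ X) →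
    Multiset.card M = k → (M.map fun d => d * d).sum ≤ B →
    ∃ L ∈ runs X k B, expand L = M ∧ (L.map Prod.fst).Nodup ∧ ∀ d ∈ L.map Prod.fst, d ∈ X := by
  intro X
  induction X with
  | nil =>
    intro M k B _ hM hk _
    have : M = 0 := Multiset.eq_zero_of_forall_notMem fun d hd => List.not_mem_nil (hM d hd)
    subst this; subst hk
    exact ⟨[], by simp [runs], rfl, List.nodup_nil, by simp⟩
  | cons a X ih =>
    intro M k B hX hM hk hB
    obtain ⟨haX, hX'⟩ := List.nodup_cons.1 hX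
    set j := (M.filter (· = a)).card with hj
    set M' := M.filter (fun d => ¬ d = a) with hM'
    have hsplit : M.filter (· = a) + M' = M := Multiset.filter_add_not _ M
    have hrep : M.filter (· = a) = Multiset.replicate j a :=
      Multiset.eq_replicate.mpr ⟨rfl, fun d hd => (Multiset.mem_filter.mp hd).2⟩
    have hcard : j + M'.card = k := by
      have h := congrArg Multiset.card hsplit
      rwa [Multiset.card_add, ← hj, hk] at h
    have hsum : j * (a * a) + (M'.map fun d => d * d).sum ≤ B := by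
      rw [← hsplit, hrep] at hB
      simpa using hB
    obtain ⟨L, hL, hL', hnd, hsub⟩ := ih M' (k - j) (B - j * (a * a)) hX'
      (fun d hd => (List.mem_cons.mp (hM d (Multiset.mem_filter.mp hd).1)).resolve_left
        (Multiset.mem_filter.mp hd).2)
      (by omega) (by omega)
    by_cases h0 : j = 0
    · refine ⟨L, ?_, ?_, hnd, fun d hd => List.mem_cons_of_mem _ (hsub d hd)⟩
      · refine List.mem_flatMap.mpr ⟨0, List.mem_range.mpr (by omega), ?_⟩
        rw [if_pos (by omega), if_pos rfl]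
        simpa [h0] using hL
      · rw [hL', ← hsplit, hrep, h0, Multiset.replicate_zero, zero_add]
    · refine ⟨(a, j) :: L, ?_, ?_, ?_, ?_⟩
      · refine List.mem_flatMap.mpr ⟨j, List.mem_range.mpr (by omega), ?_⟩
        rw [if_pos (by omega), if_neg h0]
        exact List.mem_map.mpr ⟨L, hL, rfl⟩
      · rw [expand, hL', ← hrep, hsplit]
      · exact List.nodup_cons.2 ⟨fun h => haX (hsub a h), hnd⟩
      · intro d hd
        rcases List.mem_cons.1 hd with rfl | hd
        · exact List.mem_cons_self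
        · exact List.mem_cons_of_mem _ (hsub d hd)

theorem mem_vals {m C d : ℕ} {v : ℤ} (hm : 0 < m) (h : okVal C d v = true)
    (hdvd : (m : ℤ) ∣ (d : ℤ) - v) : v ∈ vals m C d := by
  have hv : v * v < (d : ℤ) * d := by simp only [okVal, decide_eq_true_eq] at h; exact h.1
  obtain ⟨j, hj⟩ := hdvd
  have h1 : v.natAbs < d := by
    by_contra hc
    have : (d : ℤ) ≤ v.natAbs := by omega
    nlinarith [Int.natAbs_mul_self' v]
  have hj1 : 1 ≤ j := by
    by_contra hc
    have : (m : ℤ) * j ≤ 0 := Int.mul_nonpos_of_nonneg_of_nonpos (by omega) (by omega)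
    omega
  refine List.mem_filter.mpr ⟨List.mem_map.mpr ⟨(j - 1).toNat, List.mem_range.mpr ?_, ?_⟩, h⟩
  · have h3 : j.toNat * m ≤ 2 * d := by
      have hjn : ((j.toNat : ℕ) : ℤ) = j := Int.toNat_of_nonneg (by omega)
      have h4 : (((j.toNat * m : ℕ)) : ℤ) ≤ ((2 * d : ℕ) : ℤ) := by
        push_cast; rw [hjn, mul_comm, ← hj]; omega
      exact_mod_cast h4
    have h4 := (Nat.le_div_iff_mul_le hm).mpr h3
    omega
  · have : (((j - 1).toNat : ℕ) : ℤ) + 1 = j := by omega
    rw [this]; omega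

theorem foldRun_spec {p C d : ℕ} {cont : ℤ → ℤ → ℤ → Bool → Bool} :
    ∀ (opts : List ℤ) (W : Multiset ℤ) (k : ℕ) (R Q S : ℤ) (b : Bool), (∀ v ∈ W, v ∈ opts) →
    Multiset.card W = k → Q + (W.map fun v => v * v).sum ≤ (C : ℤ) →
    foldRun p C d cont opts k R Q S b = true →
    ∃ b' : Bool, cont (R + sgn p d * W.sum) (Q + (W.map fun v => v * v).sum)
      (S + sgn p d * ((10200960 / d : ℕ) : ℤ) * (W.map fun v => v * v).sum) b' = true ∧
      (b' = true → b = true ∨ ∃ v ∈ W, badVal p d v = true) := by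
  intro opts
  induction opts with
  | nil =>
    intro W k R Q S b hW hk _ h
    have : W = 0 := Multiset.eq_zero_of_forall_notMem fun v hv => List.not_mem_nil (hW v hv)
    subst this; subst hk
    exact ⟨b, by simpa [foldRun] using h, Or.inl⟩
  | cons v vs ih =>
    intro W k R Q S b hW hk hQ h
    set j := (W.filter (· = v)).card with hj
    set W' := W.filter (fun u => ¬ u = v) with hW'
    have hsplit : W.filter (· = v) + W' = W := Multiset.filter_add_not _ W
    have hrep : W.filter (· = v) = Multiset.replicate j v :=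
      Multiset.eq_replicate.mpr ⟨rfl, fun u hu => (Multiset.mem_filter.mp hu).2⟩
    have hcard : j + W'.card = k := by
      have h := congrArg Multiset.card hsplit
      rwa [Multiset.card_add, ← hj, hk] at h
    have hsum : W.sum = (j : ℤ) * v + W'.sum := by
      conv_lhs => rw [← hsplit, hrep]
      simp
    have hsq : (W.map fun v => v * v).sum = (j : ℤ) * (v * v) + (W'.map fun v => v * v).sum := by
      conv_lhs => rw [← hsplit, hrep]
      simp
    have hnn : 0 ≤ (W'.map fun v => v * v).sum := Multiset.sum_nonneg fun x hx => by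
      obtain ⟨u, -, rfl⟩ := Multiset.mem_map.mp hx
      exact mul_self_nonneg _
    simp only [foldRun, List.all_eq_true, List.mem_range, Bool.or_eq_true, decide_eq_true_eq] at h
    rcases h j (by omega) with h' | h'
    · omega
    · obtain ⟨b', hb', hb''⟩ := ih W' (k - j) _ _ _ _
        (fun u hu => (List.mem_cons.mp (hW u (Multiset.mem_filter.mp hu).1)).resolve_left
          (Multiset.mem_filter.mp hu).2) (by omega) (by linarith) h'
      refine ⟨b', ?_, fun hb => ?_⟩
      · have e1 : R + sgn p d * W.sum = R + sgn p d * ((j : ℤ) * v) + sgn p d * W'.sum := by rw [hsum]; ring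
        have e2 : Q + (W.map fun v => v * v).sum = Q + (j : ℤ) * (v * v) + (W'.map fun v => v * v).sum := by
          rw [hsq]; ring
        have e3 : S + sgn p d * ((10200960 / d : ℕ) : ℤ) * (W.map fun v => v * v).sum =
            S + sgn p d * ((10200960 / d : ℕ) : ℤ) * ((j : ℤ) * (v * v)) +
              sgn p d * ((10200960 / d : ℕ) : ℤ) * (W'.map fun v => v * v).sum := by rw [hsq]; ring
        rw [e1, e2, e3]
        exact hb'
      · rcases hb'' hb with h1 | ⟨u, hu, hu'⟩
        · simp only [Bool.or_eq_true, Bool.and_eq_true, decide_eq_true_eq] at h1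
          rcases h1 with h1 | ⟨h1, h2⟩
          · exact Or.inl h1
          · refine Or.inr ⟨v, ?_, h2⟩
            rw [← hsplit, hrep]
            exact Multiset.mem_add.2 (Or.inl (Multiset.mem_replicate.2 ⟨h1, rfl⟩))
        · exact Or.inr ⟨u, (Multiset.mem_filter.mp hu).1, hu'⟩

theorem fold_spec {p m C : ℕ} {chk : ℤ → ℤ → ℤ → Bool → Bool} :
    ∀ (L : List (ℕ × ℕ)) (M : Multiset (ℕ × ℤ)) (R Q S : ℤ) (b : Bool), (L.map Prod.fst).Nodup →
    M.map Prod.fst = expand L → (∀ w ∈ M, w.2 ∈ vals m C w.1) →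
    Q + (M.map fun w => w.2 * w.2).sum ≤ (C : ℤ) → fold p m C chk L R Q S b = true →
    ∃ b' : Bool, chk (R + (M.map fun w => sgn p w.1 * w.2).sum) (Q + (M.map fun w => w.2 * w.2).sum)
      (S + (M.map fun w => sgn p w.1 * ((10200960 / w.1 : ℕ) : ℤ) * (w.2 * w.2)).sum) b' = true ∧
      (b' = true → b = true ∨ ∃ w ∈ M, badVal p w.1 w.2 = true) := by
  intro L
  induction L with
  | nil =>
    intro M R Q S b _ hM _ _ h
    have : M = 0 := Multiset.map_eq_zero.1 hM
    subst this
    exact ⟨b, by simpa [fold] using h, Or.inl⟩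
  | cons w L ih =>
    obtain ⟨d, k⟩ := w
    intro M R Q S b hnd hM hv hQ h
    obtain ⟨hd, hnd'⟩ := List.nodup_cons.1 hnd
    set A := M.filter (fun w => w.1 = d) with hA
    set M' := M.filter (fun w => ¬ w.1 = d) with hM'
    have hsplit : A + M' = M := Multiset.filter_add_not _ M
    have hrest : ∀ a ∈ expand L, a ≠ d := fun a ha e => hd (e ▸ mem_expand_iff ha)
    have hA1 : A.map Prod.fst = Multiset.replicate k d := by
      have h0 : A.map Prod.fst = (M.map Prod.fst).filter (fun a => a = d) := by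
        rw [Multiset.filter_map]; rfl
      rw [h0, hM, expand, Multiset.filter_add,
        Multiset.filter_eq_self.2 fun a ha => Multiset.eq_of_mem_replicate ha,
        Multiset.filter_eq_nil.2 hrest, add_zero]
    have hM1 : M'.map Prod.fst = expand L := by
      have h0 : M'.map Prod.fst = (M.map Prod.fst).filter (fun a => ¬ a = d) := by
        rw [Multiset.filter_map]; rfl
      rw [h0, hM, expand, Multiset.filter_add,
        Multiset.filter_eq_nil.2 (fun a ha h => h (Multiset.eq_of_mem_replicate ha)),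
        Multiset.filter_eq_self.2 hrest, zero_add]
    have hAd : ∀ w ∈ A, w.1 = d := fun w hw => (Multiset.mem_filter.1 hw).2
    have hW : Multiset.card (A.map Prod.snd) = k := by
      have := congrArg Multiset.card hA1
      simpa using this
    have hnn : 0 ≤ (M'.map fun w => w.2 * w.2).sum := Multiset.sum_nonneg fun x hx => by
      obtain ⟨u, -, rfl⟩ := Multiset.mem_map.mp hx
      exact mul_self_nonneg _
    have e2 : ((A.map Prod.snd).map fun v => v * v).sum = (A.map fun w => w.2 * w.2).sum := by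
      rw [Multiset.map_map]; rfl
    have e1 : sgn p d * (A.map Prod.snd).sum = (A.map fun w => sgn p w.1 * w.2).sum := by
      rw [← Multiset.sum_map_mul_left]
      exact congrArg _ (Multiset.map_congr rfl fun w hw => by rw [hAd w hw])
    have e3 : sgn p d * ((10200960 / d : ℕ) : ℤ) * (A.map fun w => w.2 * w.2).sum =
        (A.map fun w => sgn p w.1 * ((10200960 / w.1 : ℕ) : ℤ) * (w.2 * w.2)).sum := by
      rw [← Multiset.sum_map_mul_left]
      exact congrArg _ (Multiset.map_congr rfl fun w hw => by rw [hAd w hw])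
    have hsum : ∀ F : ℕ × ℤ → ℤ, (M.map F).sum = (A.map F).sum + (M'.map F).sum := fun F => by
      conv_lhs => rw [← hsplit]
      rw [Multiset.map_add, Multiset.sum_add]
    rw [hsum] at hQ
    obtain ⟨b1, hb1, hb1'⟩ := foldRun_spec (vals m C d) (A.map Prod.snd) k R Q S b
      (fun v hv' => by
        obtain ⟨w, hw, rfl⟩ := Multiset.mem_map.1 hv'
        have := hv w (Multiset.mem_filter.1 hw).1
        rwa [hAd w hw] at this) hW (by rw [e2]; linarith) h
    rw [e2, e1, e3] at hb1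
    obtain ⟨b', hb', hb''⟩ := ih M' _ _ _ b1 hnd' hM1
      (fun w hw => hv w (Multiset.mem_filter.1 hw).1) (by linarith) hb1
    refine ⟨b', ?_, fun hb => ?_⟩
    · rw [hsum, hsum, hsum]
      simpa only [add_assoc] using hb'
    · rcases hb'' hb with h1 | ⟨w, hw, hw'⟩
      · rcases hb1' h1 with h2 | ⟨v, hv', hbad⟩
        · exact Or.inl h2
        · obtain ⟨w, hw, rfl⟩ := Multiset.mem_map.1 hv'
          exact Or.inr ⟨w, (Multiset.mem_filter.1 hw).1, by rw [hAd w hw]; exact hbad⟩
      · exact Or.inr ⟨w, (Multiset.mem_filter.1 hw).1, hw'⟩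

theorem noCount_spec {Q : Par} {u C A : ℕ} {S : ℤ} {b : Bool} (hC : 0 < C)
    (h : Q.noCount u C S b = true)
    (hA : (A : ℤ) * A * ((C : ℤ) * C) = (Q.p : ℤ) * u * S) (hpos : Q.pos = true → A ≠ 0)
    (hzero : Q.zero = true → A = 0) (hb : b = true → A = 0) : False := by
  have hN : ((Q.p * u : ℕ) : ℤ) * S = ((A * A * (C * C) : ℕ) : ℤ) := by push_cast; exact hA.symm
  have hdiv : A * A * (C * C) / (C * C) = A * A := Nat.mul_div_cancel _ (Nat.mul_pos hC hC)
  simp only [Par.noCount, hN, Bool.or_eq_true, Bool.and_eq_true, decide_eq_true_eq, Int.toNat_natCast,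
    hdiv] at h
  rcases h with (h | h) | (h | ⟨h, h'⟩) | ⟨h, h'⟩
  · omega
  · exact h (Nat.mul_mod_left (A * A) (C * C))
  · exact h (by rw [Nat.sqrt_eq])
  · exact hpos h' (by simpa using h)
  · refine h ?_
    rcases h' with h' | h'
    · rw [hzero h', mul_zero]
    · rw [hb h', mul_zero]

variable {G : Type*} [Group G] [Fintype G] {p : ℕ} [hp : Fact p.Prime] {P : Sylow p G}
  {hP : Nat.card P = p} {e : ℕ}

namespace Blk

variable (D : Blk G P hP e)
include D

theorem one_notMem_X : CfsgLib.Char.irrOne ∉ D.X := fun h => D.not_one (Finset.mem_union_left _ h)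

theorem ne_one {χ : IrrCharacter G} (h : χ ∈ D.X ∪ D.Y) : χ ≠ CfsgLib.Char.irrOne :=
  fun e => D.not_one (e ▸ h)

/-- The degrees of the block form an admissible tuple. -/
theorem exists_tuple (hG : SG G) (Q : Par) (hQp : Q.p = p) (hQe : Q.e = e) (hp2 : 2 < p) (he : 0 < e)
    (hok : ∀ χ ∈ D.X ∪ D.Y, Q.ok (deg χ) = true) (hlo : ∀ χ ∈ D.X ∪ D.Y, Q.lo < deg χ) :
    ∃ L ∈ Q.tuples, expand L = D.X.val.map deg ∧ (L.map Prod.fst).Nodup ∧ Q.fOf L = D.f ∧ Q.eOf L = D.ε := by
  subst hQp; subst hQe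
  obtain ⟨θ, hθ⟩ := D.Y_ne
  have hsq : 1 + ∑ χ ∈ D.X, deg χ * deg χ + (Q.p - 1) / Q.e * (D.f * D.f) ≤ 10200960 := by
    have h := hG.sum_sq_le (insert CfsgLib.Char.irrOne (D.X ∪ D.Y))
    rw [Finset.sum_insert D.not_one, Finset.sum_union D.disj, deg_irrOne,
      Finset.sum_congr rfl (s₁ := D.Y) fun θ hθ => by rw [D.deg_Y θ hθ], Finset.sum_const, D.card_Y,
      smul_eq_mul] at h
    omega
  have hnd : Q.degX.Nodup := by
    refine List.Nodup.filter _ (List.Nodup.filter _ ?_)
    show divs.Nodup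
    decide +kernel
  obtain ⟨L, hL, hL', hnd', -⟩ := exists_mem_runs Q.degX (D.X.val.map deg) (Q.e - 1) 10200959 hnd
    (fun d hd => by
      obtain ⟨χ, hχ, rfl⟩ := Multiset.mem_map.1 hd
      have hm := Finset.mem_union_left D.Y (Finset.mem_def.2 hχ)
      refine List.mem_filter.2 ⟨List.mem_filter.2 ⟨mem_divs (hG.deg_dvd χ), decide_eq_true
        ⟨hG.two_le_deg (D.ne_one hm), hG.deg_lt χ⟩⟩, ?_⟩
      rw [Bool.and_eq_true, decide_eq_true_eq]
      exact ⟨⟨hlo χ hm, D.mod_X (Finset.mem_def.2 hχ)⟩, hok χ hm⟩)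
    (by rw [Multiset.card_map]; exact D.card_X)
    (by rw [Multiset.map_map]; show ∑ χ ∈ D.X, deg χ * deg χ ≤ _; omega)
  obtain ⟨ht, hs⟩ := expand_sums Q.p L
  have htot : 1 + total Q.p L = D.ε * D.f := by
    rw [ht, hL', Multiset.map_map, D.deg_rel]
    show 1 + ∑ χ ∈ D.X, sgn Q.p (deg χ) * (deg χ : ℤ) = _
    rw [Finset.sum_congr rfl fun χ hχ => by rw [D.sgn_X hp2 hχ]]
  have hf2 : 2 ≤ D.f := D.deg_Y θ hθ ▸ hG.two_le_deg (D.ne_one (Finset.mem_union_right _ hθ))
  have hf : Q.fOf L = D.f := by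
    rw [Par.fOf, htot]; rcases D.ε_sq with k | k <;> rw [k] <;> omega
  have hε : Q.eOf L = D.ε := by
    rw [Par.eOf, htot, CfsgLib.MTwentyTwoUnique.tsgn]
    rcases D.ε_sq with k | k <;> rw [k] <;> split_ifs <;> omega
  refine ⟨L, List.mem_filter.2 ⟨hL, ?_⟩, hL', hnd', hf, hε⟩
  rw [Bool.and_eq_true, decide_eq_true_eq, hf, hε, hs, hL', Multiset.map_map]
  have hYm := Finset.mem_union_right D.X hθ
  exact ⟨⟨D.deg_Y θ hθ ▸ hlo θ hYm, hf2,
    Nat.mod_eq_zero_of_dvd (D.deg_Y θ hθ ▸ hG.deg_dvd θ), Int.emod_eq_zero_of_dvd D.deg_f, hsq⟩,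
    D.deg_Y θ hθ ▸ hok θ hYm⟩

/-- The search with values leaves the excepted tuples. -/
theorem excl_of_dead (hG : SG G) (Q : Par) (hQp : Q.p = p) (hQe : Q.e = e) (hp2 : 2 < p) (he : 0 < e)
    (hm : 0 < Q.m) {excl : List (ℕ × ℕ) → Bool} (hdead : Q.dead excl = true)
    (hok : ∀ χ ∈ D.X ∪ D.Y, Q.ok (deg χ) = true) (hlo : ∀ χ ∈ D.X ∪ D.Y, Q.lo < deg χ)
    {t : G} (ht : t * t = 1) (ht1 : t ≠ 1)
    (hcong : ∀ χ ∈ D.X ∪ D.Y, (Q.m : ℤ) ∣ (deg χ : ℤ) - intVal χ ht)
    (hC : Nat.card (centralizer ({t} : Set G)) ∈ Q.Cs) (hu : (reg P).card ∈ Q.us)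
    (hpos : Q.pos = true → (invSet (pw P hP 1) t).Nonempty)
    (hzero : Q.zero = true → invSet (pw P hP 1) t = ∅) :
    ∃ L ∈ Q.tuples, excl L = true ∧ expand L = D.X.val.map deg ∧ Q.fOf L = D.f := by
  obtain ⟨L, hL, hL', hnd, hf, hε⟩ := D.exists_tuple hG Q hQp hQe hp2 he hok hlo
  subst hQp; subst hQe
  refine ⟨L, hL, ?_, hL', hf⟩
  by_contra hex
  simp only [Par.dead, List.all_eq_true, Bool.or_eq_true] at hdead
  set C := Nat.card (centralizer ({t} : Set G)) with hCdef
  have hfold := (hdead L hL).resolve_left hex C hC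
  have hp2' : Q.p ≠ 2 := by omega
  obtain ⟨r, hr, hT⟩ := D.exists_val hp2' ht ht1
  haveI := hG.simple
  have hsum : 1 + ∑ χ ∈ D.X, intVal χ ht * intVal χ ht +
      (((Q.p - 1) / Q.e : ℕ) : ℤ) * (r * r) ≤ (C : ℤ) := by
    have h := Finset.sum_le_sum_of_subset_of_nonneg (f := fun χ => intVal χ ht * intVal χ ht)
      (Finset.subset_univ (insert CfsgLib.Char.irrOne (D.X ∪ D.Y))) fun χ _ _ => mul_self_nonneg _
    rw [CfsgLib.MTwelveUnique.sum_sq_val (fun χ => intVal χ ht) (fun χ => intVal_spec χ ht),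
      Finset.sum_insert D.not_one, Finset.sum_union D.disj, intVal_irrOne ht,
      Finset.sum_congr rfl (s₁ := D.Y) fun θ hθ => by rw [hr θ hθ], Finset.sum_const, D.card_Y,
      nsmul_eq_mul, ← hCdef] at h
    linarith
  have hval : ∀ χ ∈ D.X ∪ D.Y, okVal C (deg χ) (intVal χ ht) = true := fun χ hχ => by
    have hlt := CfsgLib.MTwelveUnique.sq_lt_deg_sq hG.not_comm χ (D.ne_one hχ) ht1 (intVal_spec χ ht)
    have hmod := CfsgLib.MTwelveUnique.deg_dvd_index_mul χ (intVal_spec χ ht) hCdef.symm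
    rw [hG.card] at hmod
    have hle : intVal χ ht * intVal χ ht ≤ (C : ℤ) := by
      rw [hCdef, ← CfsgLib.MTwelveUnique.sum_sq_val (fun χ => intVal χ ht) (fun χ => intVal_spec χ ht)]
      exact Finset.single_le_sum (f := fun χ => intVal χ ht * intVal χ ht)
        (fun χ _ => mul_self_nonneg _) (Finset.mem_univ χ)
    simp only [okVal, decide_eq_true_eq]
    exact ⟨hlt, hle, hmod⟩
  obtain ⟨θ, hθ⟩ := D.Y_ne
  have hYm := Finset.mem_union_right D.X hθ
  set M := D.X.val.map fun χ => (deg χ, intVal χ ht) with hM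
  obtain ⟨b, hb, hb'⟩ := fold_spec L M 1 1 10200960 false hnd
    (by rw [hM, Multiset.map_map, hL']; rfl)
    (fun w hw => by
      obtain ⟨χ, hχ, rfl⟩ := Multiset.mem_map.1 hw
      have hm' := Finset.mem_union_left D.Y (Finset.mem_def.2 hχ)
      exact mem_vals hm (hval χ hm') (hcong χ hm'))
    (by
      rw [hM, Multiset.map_map]
      show 1 + ∑ χ ∈ D.X, intVal χ ht * intVal χ ht ≤ (C : ℤ)
      have : 0 ≤ (((Q.p - 1) / Q.e : ℕ) : ℤ) * (r * r) := mul_nonneg (Int.natCast_nonneg _) (mul_self_nonneg r)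
      linarith)
    hfold
  rw [hM, Multiset.map_map, Multiset.map_map, Multiset.map_map] at hb
  change Q.chk _ _ _ (1 + ∑ χ ∈ D.X, sgn Q.p (deg χ) * intVal χ ht)
    (1 + ∑ χ ∈ D.X, intVal χ ht * intVal χ ht)
    (10200960 + ∑ χ ∈ D.X, sgn Q.p (deg χ) * ((10200960 / deg χ : ℕ) : ℤ) * (intVal χ ht * intVal χ ht))
    b = true at hb
  rw [Finset.sum_congr rfl (f := fun χ => sgn Q.p (deg χ) * intVal χ ht)
      (g := fun χ => D.s χ * intVal χ ht) fun χ hχ => by rw [D.sgn_X hp2 hχ], ← hT, hf, hε] at hb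
  have hr2 : D.ε * (D.ε * r) = r := by rcases D.ε_sq with k | k <;> rw [k] <;> ring
  simp only [Par.chk, hr2, Bool.or_eq_true, decide_eq_true_eq, Bool.not_eq_true'] at hb
  rcases hb with ((h | h) | h) | h
  · omega
  · have := hval θ hYm
    rw [D.deg_Y θ hθ, hr θ hθ, h] at this
    exact Bool.false_ne_true this
  · have := hcong θ hYm
    rw [D.deg_Y θ hθ, hr θ hθ] at this
    exact h (Int.emod_eq_zero_of_dvd this)
  · rw [List.all_eq_true] at h
    refine noCount_spec (A := (invSet (pw P hP 1) t).card) Nat.card_pos (h _ hu) ?_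
      (fun h' => Finset.card_ne_zero.2 (hpos h')) (fun h' => by rw [hzero h', Finset.card_empty]) fun h' => ?_
    · rw [D.count hp2' t ht r hr, hG.card, Nat.cast_ofNat,
        Finset.sum_congr rfl (g := fun χ => sgn Q.p (deg χ) * ((10200960 / deg χ : ℕ) : ℤ) *
          (intVal χ ht * intVal χ ht)) fun χ hχ => by rw [D.sgn_X hp2 hχ]; ring]
    · obtain ⟨w, hw, hbad⟩ := (hb' h').resolve_left Bool.false_ne_true
      obtain ⟨χ, hχ, rfl⟩ := Multiset.mem_map.1 hw
      by_contra hne
      have := D.dihedral_le hp2' ht (Finset.card_pos.1 (Nat.pos_of_ne_zero hne)) (Finset.mem_def.2 hχ)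
      simp only [badVal, decide_eq_true_eq, D.sgn_X hp2 (Finset.mem_def.2 hχ)] at hbad
      linarith

end Blk

end CfsgLib.MTwentyThreeUnique.OrderLocal
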