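import Cfsg.Agent.Lib.MTwentyThreeUnique.OrderLocal.SG
import Cfsg.Agent.Lib.MTwentyTwoUnique.FromOrder.Tools
import Mathlib

/-!
Sylow numbers, fixed subgroups of elements normalising a centraliser and centralisers of elements centralising
a Sylow subgroup of prime order.
-/

set_option autoImplicit false
set_option linter.style.haveILetI false
set_option linter.unusedSectionVars false

noncomputable section

open scoped Classical

namespace CfsgLib.MTwentyThreeUnique.OrderLocal

open Subgroup CfsgLib.SmallGroups CfsgLib.SmallSimple Cfsg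
open CfsgLib.MTwentyTwoUnique.FromOrder (exists_sylow_zpowers sylow_le_centralizer dvs mem_dvs)

variable {G : Type*} [Group G] [Fintype G] {p : ℕ} [hp : Fact p.Prime]

/-- The Sylow numbers and automizer orders that survive. -/
def numsOK (p m : ℕ) (ks : List ℕ) (L : List (ℕ × ℕ)) : Bool :=
  ks.all fun k => decide (k = 1) || decide (k % p ≠ 1) || decide (m % k ≠ 0) ||
    (decide (k = p + 1) && decide (2 * (p * m) ≠ p * (p * p - 1)) &&
      decide (p * m ≠ p * ((p - 1) * (p - 2)))) ||
    (List.range p).all fun r => decide (r < 2) || decide ((p - 1) % r ≠ 0) || decide (m / k % r ≠ 0) ||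
      (decide (2 * p + 1 ≤ k) && decide (k ≤ 12 * p + 1) &&
        decide (((k - 1) / p).factorial % (2 * (m / k / r)) ≠ 0)) ||
      L.contains (k, r)

/-- The surviving numbers occur. -/
theorem exists_numbers [IsSimpleGroup G] (hG : ¬ IsMulCommutative G) {n m : ℕ} (hnG : Nat.card G = n)
    (hn : n = p * m) (hm : ¬ p ∣ m) (hp2 : p ≠ 2) (P : Sylow p G) (ks : List ℕ)
    (hks : ∀ k, k ∣ m → k ∈ ks) (L : List (ℕ × ℕ)) (h : numsOK p m ks L = true) :
    ∃ k r u : ℕ, (k, r) ∈ L ∧ Nat.card (Sylow p G) = k ∧ k * (r * u) = m ∧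
      Nat.card (normalizer ((P : Subgroup G) : Set G)) = p * (r * u) ∧
      Nat.card (centralizer ((P : Subgroup G) : Set G)) = p * u := by
  subst hn
  obtain ⟨k, c, hk, hk1, hkp, hkc, hN, -⟩ :=
    AtMost1092.sylow_data hG (a := 1) (by rw [pow_one, hnG]) hm one_ne_zero P
  rw [pow_one] at hN
  obtain ⟨r, u, hr, hr1, hru, hC⟩ := AtMost1092.prime_data hG hnG hm P hN
  subst hru
  have hk0 : 0 < k := hk ▸ Nat.card_pos
  have hkm : k ∣ m := ⟨r * u, hkc.symm⟩
  have hp1 : 0 < p - 1 := Nat.sub_pos_of_lt hp.out.one_lt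
  have hrlt : r < p := by
    have := Nat.le_of_dvd hp1 hr
    omega
  have hr2 : 2 ≤ r := by
    have h0 : 0 < r := Nat.pos_of_dvd_of_pos hr hp1
    omega
  have hdiv : m / k = r * u := by rw [← hkc, Nat.mul_div_cancel_left _ hk0]
  simp only [numsOK, List.all_eq_true, List.mem_range, Bool.or_eq_true, Bool.and_eq_true,
    decide_eq_true_eq] at h
  rcases h k (hks k hkm) with (((h1 | h1) | h1) | h1) | h1
  · exact absurd h1 hk1
  · exact absurd hkp h1
  · exact absurd (Nat.mod_eq_zero_of_dvd hkm) h1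
  · obtain ⟨⟨hj1, hne1⟩, hne2⟩ := h1
    rcases AtMost1092.order_of_succ hG hnG hm (by rw [hk, hj1]) with h2 | h2
    · exact absurd (hnG ▸ h2) hne1
    · exact absurd (hnG ▸ h2) hne2
  · rw [hdiv] at h1
    rcases h1 r hrlt with (((h2 | h2) | h2) | h2) | h2
    · omega
    · exact absurd (Nat.mod_eq_zero_of_dvd hr) h2
    · exact absurd (Nat.mul_mod_right r u) h2
    · obtain ⟨⟨hlo, hhi⟩, h3⟩ := h2
      have hkj : (k - 1) / p * p + 1 = k := by
        have := Nat.div_add_mod k p
        rw [hkp] at this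
        have h4 : k - 1 = p * (k / p) := by omega
        rw [h4, Nat.mul_div_cancel_left _ hp.out.pos, mul_comm]
        omega
      refine absurd (Nat.mod_eq_zero_of_dvd ?_) h3
      rw [Nat.mul_div_cancel_left _ (show 0 < r by omega)]
      have hcard : Nat.card (P : Subgroup G) = p := by
        simpa using card_sylow_eq (a := 1) (by rw [pow_one, hnG]) hm P
      have ht : 2 ≤ (k - 1) / p := by
        by_contra hc
        have : (k - 1) / p * p ≤ 1 * p := Nat.mul_le_mul_right p (by omega)
        omega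
      have h4 := SylowFixed.card_centralizer_dvd hG P hp2 hcard ht
        (by rw [hk, mul_comm]; exact hkj.symm)
      rw [hC, show 2 * (p * u) = p * (2 * u) by ring] at h4
      exact Nat.dvd_of_mul_dvd_mul_left hp.out.pos h4
    · exact ⟨k, r, u, List.contains_iff_mem.1 h2, hk, hkc, hN, hC⟩

/-- A prime with self-centralising elements does not divide the regular part. -/
theorem not_dvd_of_self {q c : ℕ} (hq : q.Prime) (hqp : q ≠ p) (P : Sylow p G)
    (hP : Nat.card (P : Subgroup G) = p) (hC : Nat.card (centralizer ((P : Subgroup G) : Set G)) = c)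
    (hself : ∀ x : G, orderOf x = q → Nat.card (centralizer ({x} : Set G)) = q) : ¬ q ∣ c := by
  intro hd
  haveI : Fact q.Prime := ⟨hq⟩
  obtain ⟨y', hy'⟩ := exists_prime_orderOf_dvd_card' (G := centralizer ((P : Subgroup G) : Set G)) q
    (hC ▸ hd)
  have hy : orderOf (y' : G) = q := by rw [Subgroup.orderOf_coe, hy']
  have hyC : (y' : G) ∈ centralizer ((P : Subgroup G) : Set G) := y'.2
  generalize (y' : G) = y at hy hyC
  have h := card_dvd_of_le (sylow_le_centralizer P hyC)
  rw [hP, hself y hy] at h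
  exact hqp ((Nat.prime_dvd_prime_iff_eq hp.out hq).1 h).symm

/-- An element of order `r` of the normaliser fixes a Sylow `q`-subgroup of the centraliser. -/
theorem exists_fixed (P : Sylow p G) {r q a m : ℕ} (hr : r.Prime) (hq : q.Prime)
    (hrN : r ∣ Nat.card (normalizer ((P : Subgroup G) : Set G)))
    (hrC : ¬ r ∣ Nat.card (centralizer ((P : Subgroup G) : Set G)))
    (hC : Nat.card (centralizer ((P : Subgroup G) : Set G)) = q ^ a * m) (hm : ¬ q ∣ m) :
    ∃ b ∈ normalizer ((P : Subgroup G) : Set G), orderOf b = r ∧ ∃ F : Subgroup G,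
      F ≤ centralizer ((P : Subgroup G) : Set G) ∧ (∀ x ∈ F, Commute b x) ∧
      Nat.card F ∣ q ^ a ∧ Nat.card F % r = q ^ a % r := by
  haveI : Fact r.Prime := ⟨hr⟩
  haveI : Fact q.Prime := ⟨hq⟩
  set N := normalizer ((P : Subgroup G) : Set G) with hNdef
  set C := centralizer ((P : Subgroup G) : Set G) with hCdef
  have hCN : C ≤ N := centralizer_le_normalizer _
  haveI hnorm : (C.subgroupOf N).Normal := by
    rw [hCdef, hNdef, ← Subgroup.normalizerMonoidHom_ker]
    infer_instance
  have hD : Nat.card (C.subgroupOf N) = q ^ a * m := by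
    rw [Nat.card_congr (subgroupOfEquivOfLe hCN).toEquiv, hC]
  obtain ⟨S⟩ : Nonempty (Sylow q (C.subgroupOf N)) := inferInstance
  have hS : Nat.card (S : Subgroup (C.subgroupOf N)) = q ^ a := card_sylow_eq hD hm S
  set T : Subgroup N := (S : Subgroup (C.subgroupOf N)).map (C.subgroupOf N).subtype with hT
  have htop : normalizer (T : Set N) ⊔ C.subgroupOf N = ⊤ := Sylow.normalizer_sup_eq_top S
  have hrT : r ∣ Nat.card (normalizer (T : Set N)) := by
    by_contra hn
    have h1 := Subgroup.relIndex_sup_right (K := C.subgroupOf N) (H := normalizer (T : Set N))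
    have htop := htop
    rw [htop, relIndex_top_right] at h1
    have h2 := (C.subgroupOf N).card_mul_index
    rw [h1] at h2
    have hrD : ¬ r ∣ Nat.card (C.subgroupOf N) := by
      rw [Nat.card_congr (subgroupOfEquivOfLe hCN).toEquiv]; exact hrC
    have h3 : r ∣ (C.subgroupOf N).relIndex (normalizer (T : Set N)) :=
      (hr.dvd_mul.1 (h2 ▸ hrN)).resolve_left hrD
    exact hn (h3.trans (Subgroup.relIndex_dvd_card _ _))
  obtain ⟨b, hb⟩ := exists_prime_orderOf_dvd_card' (G := normalizer (T : Set N)) r hrT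
  set bb : G := ((b : N) : G) with hbb
  have hbo : orderOf bb = r := by rw [hbb, Subgroup.orderOf_coe, Subgroup.orderOf_coe, hb]
  refine ⟨bb, (b : N).2, hbo, ?_⟩
  set T' : Subgroup G := T.map N.subtype with hT'
  have hT'C : T' ≤ C := by
    rintro _ ⟨w, ⟨v, -, rfl⟩, rfl⟩
    exact mem_subgroupOf.1 v.2
  have hT'c : Nat.card T' = q ^ a := by
    rw [hT', card_map_of_injective N.subtype_injective, hT,
      card_map_of_injective (C.subgroupOf N).subtype_injective, hS]
  have hconj : ∀ g : G, g ∈ T' → bb * g * bb⁻¹ ∈ T' := by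
    rintro _ ⟨w, hw, rfl⟩
    exact ⟨(b : N) * w * (b : N)⁻¹, (b.2 w).1 hw, rfl⟩
  have hpow : ∀ z ∈ zpowers bb, ∀ g ∈ T', z * g * z⁻¹ ∈ T' := by
    intro z hz g hg
    obtain ⟨i, rfl⟩ := ((isOfFinOrder_of_finite bb).mem_powers_iff_mem_zpowers).2 hz
    simp only
    clear hz
    induction i generalizing g with
    | zero => simpa using hg
    | succ i ih =>
      rw [pow_succ, mul_inv_rev, show bb ^ i * bb * g * (bb⁻¹ * (bb ^ i)⁻¹) =
        bb ^ i * (bb * g * bb⁻¹) * (bb ^ i)⁻¹ by group]
      exact ih _ (hconj g hg)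
  let act : MulAction (zpowers bb) T' :=
    { smul := fun z g => ⟨(z : G) * (g : G) * (z : G)⁻¹, hpow z z.2 g g.2⟩
      one_smul := fun g => Subtype.ext (by show (1 : G) * (g : G) * (1 : G)⁻¹ = g; group)
      mul_smul := fun z z' g => Subtype.ext (by
        show (z : G) * (z' : G) * (g : G) * ((z : G) * (z' : G))⁻¹ =
          (z : G) * ((z' : G) * (g : G) * (z' : G)⁻¹) * (z : G)⁻¹
        group) }
  letI := act
  have hfix : Nat.card (MulAction.fixedPoints (zpowers bb) T') =
      Nat.card ↥(T' ⊓ centralizer ({bb} : Set G)) := by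
    refine Nat.card_congr ⟨fun g => ⟨g.1.1, g.1.2, mem_centralizer_singleton_iff.2 ?_⟩,
      fun g => ⟨⟨g.1, g.2.1⟩, fun z => Subtype.ext ?_⟩, fun g => rfl, fun g => rfl⟩
    · have h := congrArg Subtype.val (g.2 ⟨bb, mem_zpowers bb⟩)
      have h' : bb * (g.1 : G) * bb⁻¹ = g.1 := h
      exact (mul_inv_eq_iff_eq_mul.1 h').symm
    · show (z : G) * g.1 * (z : G)⁻¹ = g.1
      obtain ⟨i, hi⟩ := mem_zpowers_iff.1 z.2
      have hc : Commute bb g.1 := (mem_centralizer_singleton_iff.1 g.2.2).symm
      rw [← hi, (hc.zpow_left i).eq, mul_inv_cancel_right]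
  refine ⟨T' ⊓ centralizer ({bb} : Set G), inf_le_left.trans hT'C,
    fun x hx => (mem_centralizer_singleton_iff.1 hx.2).symm, hT'c ▸ card_dvd_of_le inf_le_left, ?_⟩
  have hpg : IsPGroup r (zpowers bb) := IsPGroup.of_card (n := 1) (by rw [Nat.card_zpowers, hbo, pow_one])
  have h := hpg.card_modEq_card_fixedPoints T'
  rw [hfix, hT'c] at h
  exact h.symm

/-- The centraliser of an element centralising `P`, from the Sylow subgroups it fixes. -/
theorem local_card [IsSimpleGroup G] (hG : ¬ IsMulCommutative G) {n m : ℕ} (hnG : Nat.card G = n)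
    (hn : n = p * m) (hm : ¬ p ∣ m) (P : Sylow p G) {k r u q : ℕ} (hk : Nat.card (Sylow p G) = k)
    (hN : Nat.card (normalizer ((P : Subgroup G) : Set G)) = p * (r * u))
    (hC : Nat.card (centralizer ((P : Subgroup G) : Set G)) = p * u) (hq : q.Prime) (hqp : q ≠ p)
    (hqr : Nat.Coprime q r) {y : G} (hy : orderOf y = q)
    (hyC : y ∈ centralizer ((P : Subgroup G) : Set G)) :
    ∃ j, j < k ∧ j % p = 1 ∧ j % q = k % q ∧ p * q * j ∣ n ∧
      Nat.card (centralizer ({y} : Set G)) =
        j * Nat.card (normalizer ((P : Subgroup G) : Set G) ⊓ centralizer ({y} : Set G) : Subgroup G) := by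
  have hP := Band6232.card_of_prime (hn ▸ hnG) hm P
  have hk1 : k ≠ 1 := hk ▸ card_sylow_ne_one hG (hnG ▸ hn ▸ dvd_mul_right p m)
  have hall := Band6232.centralizes_of_coprime P hN hC hy hqr
  obtain ⟨h1, h2, h3, h4⟩ := Band6232.fixCard_facts hG P hP hk hk1 hq hqp hy hyC hall
  refine ⟨_, h1, h2, h3, hnG ▸ h4, ?_⟩
  rw [← CfsgLib.MTwentyTwoUnique.FromOrder.local_count P (r := r) (u := u) hN hC hy hyC hqr]
  exact SylowLocal.card_eq_mul_inf P (sylow_le_centralizer P hyC)

end CfsgLib.MTwentyThreeUnique.OrderLocal
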