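import Cfsg.Agent.Lib.MTwentyThreeUnique.OrderLocal.Spec
import Cfsg.Agent.Lib.MTwentyThreeUnique.OrderLocal.Tools
import Mathlib

/-!
A simple group of order 10200960: the Sylow 23-subgroup is self-centralising with normaliser of order 253.
-/

set_option autoImplicit false
set_option linter.style.haveILetI false
set_option linter.unusedSectionVars false

noncomputable section

open scoped Classical

namespace CfsgLib.MTwentyThreeUnique.OrderLocal

open Subgroup CfsgLib.SmallGroups CfsgLib.SmallSimple CfsgLib.InvolChar Cfsg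
open CfsgLib.MTwentyTwoUnique.FromOrder (exists_sylow_zpowers sylow_le_centralizer relIndex_and_reg
  exists_involution dvs mem_dvs reg)

variable {G : Type*} [Group G] [Fintype G]

/-- Sylow numbers and automizer orders at 23. -/
def optsA : List (ℕ × ℕ) :=
  [(231, 2), (576, 2), (576, 11), (576, 22), (990, 2), (1680, 2), (1680, 11), (1680, 22), (3520, 2),
    (5544, 2), (40320, 11)]

/-- Sylow numbers and automizer orders at 11. -/
def optsB : List (ℕ × ℕ) :=
  [(144, 2), (144, 5), (144, 10), (210, 2), (276, 2), (276, 5), (276, 10), (320, 2), (672, 2), (672, 5),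
    (672, 10), (1035, 2), (1288, 2), (1288, 5), (1288, 10), (2520, 2), (3312, 2), (3312, 5), (3312, 10),
    (4830, 2), (7360, 2), (8064, 5), (15456, 2), (15456, 5), (15456, 10), (57960, 2), (185472, 5)]

theorem optsA_ok : numsOK 23 443520 (dvs [128, 9, 5, 7, 11]) optsA = true := by decide +kernel

theorem optsB_ok : numsOK 11 927360 (dvs [128, 9, 5, 7, 23]) optsB = true := by decide +kernel

theorem mem_ksA (k : ℕ) (h : k ∣ 443520) : k ∈ dvs [128, 9, 5, 7, 11] :=
  mem_dvs [128, 9, 5, 7, 11] (by simp) (by simpa using h)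

theorem mem_ksB (k : ℕ) (h : k ∣ 927360) : k ∈ dvs [128, 9, 5, 7, 23] :=
  mem_dvs [128, 9, 5, 7, 23] (by simp) (by simpa using h)

theorem prod_eq {k r u m : ℕ} (h : k * (r * u) = m) (hk : 0 < k) (hr : 0 < r) : u = m / k / r := by
  rw [← h, Nat.mul_div_cancel_left _ hk, Nat.mul_div_cancel_left _ hr]

namespace Blk

variable {p : ℕ} [hp : Fact p.Prime] {P : Sylow p G} {hP : Nat.card P = p} {e : ℕ} (D : Blk G P hP e)
include D

/-- The congruence at an involution centralising `P`. -/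
theorem cong4p (hG : SG G) (hp2 : p ≠ 2) {t : G} (ht : t * t = 1) (ht1 : t ≠ 1)
    (htC : t ∈ centralizer ((P : Subgroup G) : Set G)) {χ : IrrCharacter G} (hχ : χ ∈ D.X ∪ D.Y) :
    ((4 * p : ℕ) : ℤ) ∣ (deg χ : ℤ) - intVal χ ht := by
  have h4 : (4 : ℤ) ∣ (deg χ : ℤ) - intVal χ ht :=
    CfsgLib.SmallGroups.PrimeRational.four_dvd_deg_sub hG.linear_trivial χ ht
  have hpd : (p : ℤ) ∣ (deg χ : ℤ) - intVal χ ht := dvd_sub_comm.mp (D.congr hp2 χ hχ t ht ht1 htC)
  have hc : IsCoprime ((4 : ℕ) : ℤ) ((p : ℕ) : ℤ) := Nat.isCoprime_iff_coprime.mpr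
    (Nat.Coprime.pow_left 2 ((Nat.coprime_primes Nat.prime_two hp.out).mpr (Ne.symm hp2)))
  rw [Nat.cast_mul]
  exact hc.mul_dvd h4 hpd

/-- The degrees of the block exceed twice the prime. -/
theorem two_p_lt (hG : SG G) (hp2 : p ≠ 2) {t : G} (ht : t * t = 1) (ht1 : t ≠ 1)
    (htC : t ∈ centralizer ((P : Subgroup G) : Set G)) {χ : IrrCharacter G} (hχ : χ ∈ D.X ∪ D.Y) :
    2 * p < deg χ := by
  haveI := hG.simple
  have hlt := CfsgLib.MTwelveUnique.sq_lt_deg_sq hG.not_comm χ (D.ne_one hχ) ht1 (intVal_spec χ ht)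
  have h := D.cong4p hG hp2 ht ht1 htC hχ
  set v := intVal χ ht
  have h1 : v.natAbs < deg χ := by
    by_contra hc
    have : (deg χ : ℤ) ≤ v.natAbs := by omega
    nlinarith [Int.natAbs_mul_self' v]
  have := Int.le_of_dvd (by omega) h
  omega

end Blk

/-- Elements generating conjugate Sylow subgroups of a subgroup have centralisers of equal order. -/
theorem card_centralizer_eq_of_mem (D : Subgroup G) {q : ℕ} (hq : q.Prime) {y y' : G} (hy : y ∈ D)
    (hy' : y' ∈ D) (ho : orderOf y = q) (ho' : orderOf y' = q) (hD : ¬ q * q ∣ Nat.card D) :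
    Nat.card (centralizer ({y} : Set G)) = Nat.card (centralizer ({y'} : Set G)) := by
  haveI : Fact q.Prime := ⟨hq⟩
  obtain ⟨m, hm⟩ : q ∣ Nat.card D := ho ▸ Subgroup.orderOf_dvd_natCard D hy
  have hm' : ¬ q ∣ m := fun h => hD (hm ▸ Nat.mul_dvd_mul_left q h)
  have hyo : orderOf (⟨y, hy⟩ : D) = q := by rw [Subgroup.orderOf_mk, ho]
  have hyo' : orderOf (⟨y', hy'⟩ : D) = q := by rw [Subgroup.orderOf_mk, ho']
  obtain ⟨S, hS, -⟩ := exists_sylow_zpowers (G := D) hm hm' hyo
  obtain ⟨S', hS', -⟩ := exists_sylow_zpowers (G := D) hm hm' hyo'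
  obtain ⟨g, hg⟩ := MulAction.exists_smul_eq D S S'
  have hz : zpowers y' = (zpowers y).map (MulAut.conj (g : G)).toMonoidHom := by
    have h1 : (zpowers (⟨y', hy'⟩ : D)) = (zpowers (⟨y, hy⟩ : D)).map (MulAut.conj g).toMonoidHom := by
      rw [← hS', ← hg, Sylow.coe_subgroup_smul, ← hS]
      rfl
    have h2 := congrArg (Subgroup.map D.subtype) h1
    rw [MonoidHom.map_zpowers, Subgroup.map_map, MonoidHom.map_zpowers] at h2
    rw [MonoidHom.map_zpowers]
    exact h2
  have hc : ∀ w : G, centralizer ({w} : Set G) = centralizer ((zpowers w : Subgroup G) : Set G) := fun w => by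
    rw [zpowers_eq_closure, centralizer_closure]
  have hconj : zpowers y' = zpowers ((g : G) * y * (g : G)⁻¹) := by
    rw [hz, MonoidHom.map_zpowers]; rfl
  rw [hc y', hconj, ← hc]
  refine Nat.card_congr (((MulAut.conj (g : G)).toEquiv.subtypeEquiv fun w => ?_))
  rw [mem_centralizer_singleton_iff, mem_centralizer_singleton_iff]
  show w * y = y * w ↔ (g : G) * w * (g : G)⁻¹ * ((g : G) * y * (g : G)⁻¹) =
    (g : G) * y * (g : G)⁻¹ * ((g : G) * w * (g : G)⁻¹)
  constructor
  · intro h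
    calc _ = (g : G) * (w * y) * (g : G)⁻¹ := by group
      _ = _ := by rw [h]; group
  · intro h
    refine mul_left_cancel (a := (g : G)) (mul_right_cancel (b := (g : G)⁻¹) ?_)
    calc _ = (g : G) * w * (g : G)⁻¹ * ((g : G) * y * (g : G)⁻¹) := by group
      _ = _ := by rw [h]; group

/-- No normaliser of the two shapes with `1680` Sylow 23-subgroups. -/
theorem not_1680 (hG : SG G) [Fact (Nat.Prime 23)] (P : Sylow 23 G) {r u : ℕ}
    (hru : (r = 11 ∧ u = 24) ∨ (r = 22 ∧ u = 12)) (hk : Nat.card (Sylow 23 G) = 1680)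
    (hN : Nat.card (normalizer ((P : Subgroup G) : Set G)) = 23 * (r * u))
    (hC : Nat.card (centralizer ((P : Subgroup G) : Set G)) = 23 * u) : False := by
  haveI := hG.simple
  haveI : Fact (Nat.Prime 11) := ⟨by norm_num⟩
  haveI : Fact (Nat.Prime 5) := ⟨by norm_num⟩
  haveI : Fact (Nat.Prime 3) := ⟨by norm_num⟩
  have hnG : Nat.card G = 23 * 443520 := by rw [hG.card]
  have hnG11 : Nat.card G = 11 * 927360 := by rw [hG.card]
  have hP := Band6232.card_of_prime hnG (by norm_num) P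
  have h11N : 11 ∣ Nat.card (normalizer ((P : Subgroup G) : Set G)) := by
    rw [hN]; rcases hru with ⟨rfl, rfl⟩ | ⟨rfl, rfl⟩ <;> norm_num
  have h11C : ¬ 11 ∣ Nat.card (centralizer ((P : Subgroup G) : Set G)) := by
    rw [hC]; rcases hru with ⟨rfl, rfl⟩ | ⟨rfl, rfl⟩ <;> norm_num
  -- an element of order three centralised by `P` and by an element of order eleven
  obtain ⟨a, -, ha, F, hFC, hFa, hF1, hF2⟩ := exists_fixed P (r := 11) (q := 3) (a := 1) (m := 23 * u / 3)
    (by norm_num) (by norm_num) h11N h11C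
    (by rw [hC]; rcases hru with ⟨rfl, rfl⟩ | ⟨rfl, rfl⟩ <;> norm_num)
    (by rcases hru with ⟨rfl, rfl⟩ | ⟨rfl, rfl⟩ <;> norm_num)
  have hF : Nat.card F = 3 := by
    have h1 : Nat.card F ∣ 3 := by rwa [pow_one] at hF1
    rcases (Nat.dvd_prime Nat.prime_three).1 h1 with h | h
    · rw [h] at hF2; norm_num at hF2
    · exact h
  obtain ⟨y', hy'⟩ := exists_prime_orderOf_dvd_card' (G := F) 3 (by rw [hF])
  have hy : orderOf (y' : G) = 3 := by rw [Subgroup.orderOf_coe, hy']
  have hyC := hFC y'.2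
  have hay : Commute a (y' : G) := hFa _ y'.2
  generalize (y' : G) = y at hy hyC hay
  -- a Sylow subgroup at eleven
  obtain ⟨P', hP', hca⟩ := exists_sylow_zpowers hnG11 (by norm_num) ha
  obtain ⟨k', r', u', hmem, hk', hkru, hN', hC'⟩ := exists_numbers hG.not_comm hG.card (p := 11) (m := 927360)
    (by norm_num) (by norm_num) (by norm_num) P' _ mem_ksB optsB optsB_ok
  have hP'c := Band6232.card_of_prime hnG11 (by norm_num) P'
  have hCa : ∀ a' : G, orderOf a' = 11 → Nat.card (centralizer ({a'} : Set G)) = 11 * u' := fun a' ha' => by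
    obtain ⟨P'', -, hc⟩ := exists_sylow_zpowers hnG11 (by norm_num) ha'
    rw [hc, SylowLocal.card_centralizer_sylow P' P'', hC']
  have h3u : 3 ∣ u' := by
    have h : 3 ∣ 11 * u' := by
      rw [← hCa a ha, ← hy]
      exact Subgroup.orderOf_dvd_natCard _ (mem_centralizer_singleton_iff.2 hay.eq.symm)
    exact ((Nat.Prime.dvd_mul Nat.prime_three).1 h).resolve_left (by norm_num)
  have h4u : 4 ∣ u' := by
    haveI : Fact (Nat.Prime 2) := ⟨Nat.prime_two⟩
    obtain ⟨a', -, ha', E, -, hEa, hE1, hE2⟩ := exists_fixed P (r := 11) (q := 2)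
      (a := if u = 24 then 3 else 2) (m := 69) (by norm_num) Nat.prime_two h11N h11C
      (by rw [hC]; rcases hru with ⟨rfl, rfl⟩ | ⟨rfl, rfl⟩ <;> norm_num) (by norm_num)
    have hle : E ≤ centralizer ({a'} : Set G) := fun x hx =>
      mem_centralizer_singleton_iff.2 (hEa x hx).eq.symm
    have h4 : 4 ∣ Nat.card E := by
      obtain ⟨i, hi, hEi⟩ := (Nat.dvd_prime_pow Nat.prime_two).1 hE1
      rw [hEi] at hE2 ⊢
      rcases hru with ⟨rfl, rfl⟩ | ⟨rfl, rfl⟩ <;> norm_num at hi hE2 <;> interval_cases i <;>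
        first
          | omega
          | norm_num at hE2 ⊢
    have h := h4.trans (card_dvd_of_le hle)
    rw [hCa a' ha'] at h
    exact (Nat.Coprime.dvd_of_dvd_mul_left (by norm_num) h)
  have h23u : ¬ 23 ∣ u' := by
    intro h
    obtain ⟨z', hz'⟩ := exists_prime_orderOf_dvd_card' (G := centralizer ({a} : Set G)) 23
      (by rw [hCa a ha]; exact dvd_mul_of_dvd_right h 11)
    obtain ⟨Q, -, hcz⟩ := exists_sylow_zpowers hnG (by norm_num)
      (show orderOf (z' : G) = 23 by rw [Subgroup.orderOf_coe, hz'])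
    apply h11C
    rw [← SylowLocal.card_centralizer_sylow P Q, ← hcz, ← ha]
    exact Subgroup.orderOf_dvd_natCard _
      (mem_centralizer_singleton_iff.2 (mem_centralizer_singleton_iff.1 z'.2).symm)
  have haC : a ∈ centralizer ({y} : Set G) := mem_centralizer_singleton_iff.2 hay.eq
  have hyC' : y ∈ centralizer ((P' : Subgroup G) : Set G) :=
    hca ▸ mem_centralizer_singleton_iff.2 hay.eq.symm
  have h23y : 23 ∣ Nat.card (centralizer ({y} : Set G)) := by
    have h := card_dvd_of_le (sylow_le_centralizer P hyC)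
    rwa [hP] at h
  -- the centraliser of `y` is prime to five
  have h5y : ¬ 5 ∣ Nat.card (centralizer ({y} : Set G)) := by
    obtain ⟨j, hj1, hj2, hj3, hj4, hcard⟩ := local_card hG.not_comm hG.card (m := 443520) (by norm_num)
      (by norm_num) P hk hN hC Nat.prime_three (by norm_num)
      (by rcases hru with ⟨rfl, rfl⟩ | ⟨rfl, rfl⟩ <;> norm_num) hy hyC
    have key : ∀ k ∈ dvs [128, 9, 5, 7, 11], k < 1680 → k % 23 = 1 → k % 3 = 1680 % 3 →
        23 * 3 * k ∣ 10200960 → ¬ 5 ∣ k := by decide +kernel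
    have hj5 := key j (mem_ksA j (Nat.dvd_of_mul_dvd_mul_left (by norm_num : 0 < 23)
      (dvd_trans (Dvd.intro_left 3 (by ring)) hj4 : 23 * j ∣ 23 * 443520))) hj1 hj2 hj3 hj4
    intro h5
    rw [hcard] at h5
    rcases (Nat.Prime.dvd_mul (by norm_num)).1 h5 with h | h
    · exact hj5 h
    · have h' := h.trans (card_dvd_of_le inf_le_left)
      rw [hN] at h'
      rcases hru with ⟨rfl, rfl⟩ | ⟨rfl, rfl⟩ <;> norm_num at h'
  have hopts : ∀ w ∈ optsB, 927360 / w.1 / w.2 % 12 ≠ 0 ∨ 927360 / w.1 / w.2 % 23 = 0 ∨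
      w.1 = 276 ∨ w.1 = 1288 ∨ (w = (4830, 2)) ∨ w = (15456, 5) := by decide +kernel
  have hk0 : 0 < k' := hk' ▸ Nat.card_pos
  have hr0 : 0 < r' := Nat.pos_of_ne_zero fun h => by rw [h] at hkru; simp at hkru
  have hu' := prod_eq hkru hk0 hr0
  have h12 : 12 ∣ u' := Nat.Coprime.mul_dvd_of_dvd_of_dvd (by norm_num : Nat.Coprime 3 4) h3u h4u
  have no_multiple : k' = 276 ∨ k' = 1288 → False := by
    intro hk2
    have hco : ∀ w ∈ optsB, Nat.Coprime 3 w.2 := by decide +kernel
    obtain ⟨j, hj1, hj2, hj3, hj4, hcard⟩ := local_card hG.not_comm hG.card (m := 927360) (by norm_num)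
      (by norm_num) P' hk' hN' hC' Nat.prime_three (by norm_num) (hco _ hmem) hy hyC'
    have key : ∀ k ∈ dvs [128, 9, 5, 7, 23], ∀ n ∈ [276, 1288], k < n → k % 11 = 1 → k % 3 = n % 3 →
        11 * 3 * k ∣ 10200960 → ¬ 23 ∣ k := by decide +kernel
    have hj23 := key j (mem_ksB j (Nat.dvd_of_mul_dvd_mul_left (by norm_num : 0 < 11)
      (dvd_trans (Dvd.intro_left 3 (by ring)) hj4 : 11 * j ∣ 11 * 927360))) k'
      (by simpa using hk2) hj1 hj2 hj3 hj4
    rw [hcard] at h23y
    rcases (Nat.Prime.dvd_mul (by norm_num)).1 h23y with h | h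
    · exact hj23 h
    · have h' := h.trans (card_dvd_of_le inf_le_left)
      rw [hN'] at h'
      have hru' : r' * u' = 3360 ∨ r' * u' = 720 := by
        rcases hk2 with rfl | rfl <;> omega
      rcases hru' with h'' | h'' <;> rw [h''] at h' <;> norm_num at h'
  rcases hopts _ hmem with h | h | h | h | h | h
  · exact h (by rw [← hu']; exact Nat.mod_eq_zero_of_dvd h12)
  · exact h23u (Nat.dvd_of_mod_eq_zero (hu'.symm ▸ h))
  · exact no_multiple (Or.inl h)
  · exact no_multiple (Or.inr h)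
  · obtain ⟨rfl, rfl⟩ : k' = 4830 ∧ r' = 2 := Prod.mk.injEq .. ▸ h
    obtain rfl : u' = 96 := hu'.trans (by norm_num)
    obtain ⟨hrel, hreg⟩ := relIndex_and_reg P' hP'c hN' hC'
    obtain ⟨D⟩ := exists_blk (P := P') (hP := hP'c) (e := 2) le_rfl (by norm_num) hrel
    obtain ⟨t, ht, ht1, -, htC, h22⟩ := exists_involution P' hP'c (by norm_num) hC' (by norm_num)
    obtain ⟨L, -, hL, -⟩ := D.excl_of_dead hG parB rfl rfl (by norm_num) (by norm_num) (by decide)
      deadB (fun _ _ => rfl) (fun χ hχ => D.two_p_lt hG (by norm_num) ht ht1 htC hχ) ht ht1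
      (fun χ hχ => D.cong4p hG (by norm_num) ht ht1 htC hχ)
      (mem_cents (no := []) (hG.card ▸ card_subgroup_dvd_card _) (hG.cents_lt ht1) h22 (by simp))
      (by rw [hreg]; decide) (fun h => by simp [parB] at h) (fun h => by simp [parB] at h)
    exact Bool.false_ne_true hL
  · obtain ⟨rfl, rfl⟩ : k' = 15456 ∧ r' = 5 := Prod.mk.injEq .. ▸ h
    obtain rfl : u' = 12 := hu'.trans (by norm_num)
    obtain ⟨b, -, hb, E, hEC, hEb, hE1, hE2⟩ := exists_fixed P' (r := 5) (q := 3) (a := 1) (m := 44)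
      (by norm_num) (by norm_num) (by rw [hN']; norm_num) (by rw [hC']; norm_num) (by rw [hC']; norm_num)
      (by norm_num)
    have hE : Nat.card E = 3 := by
      have h1 : Nat.card E ∣ 3 := by rwa [pow_one] at hE1
      rcases (Nat.dvd_prime Nat.prime_three).1 h1 with h | h
      · rw [h] at hE2; norm_num at hE2
      · exact h
    obtain ⟨w, hw⟩ := exists_prime_orderOf_dvd_card' (G := E) 3 (by rw [hE])
    have hwo : orderOf (w : G) = 3 := by rw [Subgroup.orderOf_coe, hw]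
    apply h5y
    rw [card_centralizer_eq_of_mem _ Nat.prime_three hyC' (hEC w.2) hy hwo (by rw [hC']; norm_num), ← hb]
    exact Subgroup.orderOf_dvd_natCard _ (mem_centralizer_singleton_iff.2 (hEb _ w.2).eq)

set_option maxHeartbeats 800000 in
/-- The Sylow 23-data. -/
theorem twentyThree (hG : SG G) (x : G) (hx : orderOf x = 23) :
    Nat.card (centralizer ({x} : Set G)) = 23 ∧
      Nat.card (normalizer ((zpowers x : Subgroup G) : Set G)) = 253 := by
  haveI : Fact (Nat.Prime 23) := ⟨by norm_num⟩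
  haveI := hG.simple
  have hnG : Nat.card G = 23 * 443520 := by rw [hG.card]
  obtain ⟨P, hPx, hcx⟩ := exists_sylow_zpowers hnG (by norm_num) hx
  have hP := Band6232.card_of_prime hnG (by norm_num) P
  obtain ⟨k, r, u, hmem, hk, hkru, hN, hC⟩ := exists_numbers hG.not_comm hG.card (p := 23) (m := 443520)
    (by norm_num) (by norm_num) (by norm_num) P _ mem_ksA optsA optsA_ok
  obtain ⟨hrel, hreg⟩ := relIndex_and_reg P hP hN hC
  have key : (r = 2 ∧ 2 ∣ u) ∨ ((k = 576 ∨ k = 3520) ∧ 7 ∣ u ∧ Nat.Coprime 7 r) ∨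
      (k = 1680 ∧ ((r = 11 ∧ u = 24) ∨ (r = 22 ∧ u = 12))) ∨ (r = 11 ∧ u = 1) := by
    simp only [optsA, List.mem_cons, Prod.mk.injEq, List.not_mem_nil, or_false] at hmem
    rcases hmem with ⟨rfl, rfl⟩ | ⟨rfl, rfl⟩ | ⟨rfl, rfl⟩ | ⟨rfl, rfl⟩ | ⟨rfl, rfl⟩ | ⟨rfl, rfl⟩ |
      ⟨rfl, rfl⟩ | ⟨rfl, rfl⟩ | ⟨rfl, rfl⟩ | ⟨rfl, rfl⟩ | ⟨rfl, rfl⟩ <;> norm_num <;> omega
  rcases key with ⟨rfl, hu⟩ | ⟨hk', hu, hr⟩ | ⟨hk', hru⟩ | ⟨rfl, rfl⟩
  · obtain ⟨t, ht, ht1, -, htC, -⟩ := exists_involution P hP (by norm_num) hC hu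
    obtain ⟨D⟩ := exists_blk (P := P) (hP := hP) (e := 2) le_rfl (by norm_num) hrel
    obtain ⟨L, hL, -⟩ := D.exists_tuple hG parA rfl rfl (by norm_num) (by norm_num) (fun _ _ => rfl)
      fun χ hχ => D.two_p_lt hG (by norm_num) ht ht1 htC hχ
    rw [deadA] at hL
    exact absurd hL List.not_mem_nil
  · refine (Band6232.false_of_no_local hG.not_comm hG.card (m := 443520) (by norm_num) (by norm_num) P hk
      (by omega) hN hC (by norm_num : Nat.Prime 7) (by norm_num) hr hu fun j hj h1 h2 h3 => ?_).elim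
    have key : ∀ k ∈ dvs [128, 9, 5, 7, 11], ∀ n ∈ [576, 3520], k < n → k % 23 = 1 → k % 7 = n % 7 →
        ¬ 23 * 7 * k ∣ 10200960 := by decide +kernel
    have hd := Nat.dvd_of_mod_eq_zero h3
    exact key j (mem_ksA j (Nat.dvd_of_mul_dvd_mul_left (by norm_num : 0 < 23)
      (dvd_trans (Dvd.intro_left 7 (by ring)) hd : 23 * j ∣ 23 * 443520))) k (by simpa using hk') hj h1 h2 hd
  · subst hk'
    exact (not_1680 hG P hru hk hN hC).elim
  · exact ⟨hcx ▸ hC, hPx ▸ hN⟩

end CfsgLib.MTwentyThreeUnique.OrderLocal
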